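/-
Linear parts, formal inverse function theorem and minor ideals for power series over a field.
-/
import Groth.Agent.Lib.Morse19.Basic
import Groth.Agent.Lib.H2Alg.PSHom

set_option autoImplicit false
set_option linter.style.haveILetI false

noncomputable section

universe u

open MvPowerSeries IsLocalRing

namespace Groth.Agent.NodeJac3

variable {k : Type u} [Field k] {n : ℕ}

local notation "P" => MvPowerSeries (Fin n) k

/-- Linear part of a power series. -/
def lin : MvPowerSeries (Fin n) k →ₗ[k] (Fin n → k) :=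
  LinearMap.pi fun i => MvPowerSeries.coeff (Finsupp.single i 1)

theorem lin_apply (f : P) (i : Fin n) : lin f i = coeff (Finsupp.single i 1) f := rfl

theorem mem_max_iff (f : P) : f ∈ maximalIdeal P ↔ constantCoeff f = 0 := by
  rw [mem_maximalIdeal, mem_nonunits_iff, isUnit_iff_constantCoeff, isUnit_iff_ne_zero, not_not]

theorem constantCoeff_pderiv (i : Fin n) (f : P) : constantCoeff (pderiv k i f) = lin f i := by
  rw [← coeff_zero_eq_constantCoeff_apply, coeff_pderiv, lin_apply]
  simp

theorem O_two_iff (f : P) : Morse19.O 2 f ↔ constantCoeff f = 0 ∧ lin f = 0 := by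
  rw [Morse19.O_iff]
  refine ⟨fun h => ⟨?_, funext fun i => h _ (by rw [Finsupp.degree_single]; omega)⟩, fun ⟨h0, h1⟩ e he => ?_⟩
  · rw [← coeff_zero_eq_constantCoeff_apply]; exact h 0 (by simp)
  · rcases Nat.lt_or_eq_of_le (Nat.lt_succ_iff.1 he) with h | h
    · rw [(Finsupp.degree_eq_zero_iff e).1 (by omega), coeff_zero_eq_constantCoeff_apply]; exact h0
    · have hne : e ≠ 0 := fun h' => by rw [h', map_zero] at h; omega
      obtain ⟨i, hi⟩ := Finsupp.support_nonempty_iff.2 hne
      have hle : Finsupp.single i 1 ≤ e :=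
        Finsupp.single_le_iff.2 (Nat.one_le_iff_ne_zero.2 (Finsupp.mem_support_iff.1 hi))
      have hz : e - Finsupp.single i 1 = 0 := by
        have h2 := congrArg Finsupp.degree (tsub_add_cancel_of_le hle)
        rw [map_add, Finsupp.degree_single, h] at h2
        exact (Finsupp.degree_eq_zero_iff _).1 (by omega)
      rw [← tsub_add_cancel_of_le hle, hz, zero_add]
      exact congrFun h1 i

theorem mem_sq_iff (f : P) : f ∈ maximalIdeal P ^ 2 ↔ Morse19.O 2 f := by
  rw [H2Alg.PSHom.maximalIdeal_eq]
  refine ⟨fun h => H2Alg.PSHom.le_order_of_mem_pow h, fun h => H2Alg.PSHom.mem_pow fun d hd => ?_⟩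
  exact Morse19.O_iff.1 h d hd

theorem lin_mul_left (r f : P) (hf : f ∈ maximalIdeal P) : lin (r * f) = constantCoeff r • lin f := by
  funext i
  rw [← constantCoeff_pderiv, Derivation.leibniz, map_add, smul_eq_mul, smul_eq_mul, map_mul, map_mul,
    (mem_max_iff f).1 hf, zero_mul, add_zero, constantCoeff_pderiv, Pi.smul_apply, smul_eq_mul]

theorem lin_X (j : Fin n) : lin (X j : P) = Pi.single j 1 := by
  funext i
  rw [← constantCoeff_pderiv, pderiv_X]
  by_cases h : i = j
  · subst h; simp
  · rw [Pi.single_eq_of_ne (Ne.symm h), Pi.single_eq_of_ne h, map_zero]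

/-- The linear substitution attached to a matrix. -/
def linSubst (M : Matrix (Fin n) (Fin n) k) : Fin n → P :=
  fun i => ∑ j, C (M i j) * X j

theorem constantCoeff_linSubst (M : Matrix (Fin n) (Fin n) k) (i : Fin n) :
    constantCoeff (linSubst M i : P) = 0 := by
  simp [linSubst]

theorem hasSubst_linSubst (M : Matrix (Fin n) (Fin n) k) : HasSubst (linSubst M : Fin n → P) :=
  hasSubst_of_constantCoeff_zero (constantCoeff_linSubst M)

theorem subst_C_mul {a : Fin n → P} (ha : HasSubst a) (c : k) (f : P) :
    subst a (C c * f) = C c * subst a f := by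
  rw [← substAlgHom_apply ha, map_mul, substAlgHom_apply ha]
  congr 1
  · have := (substAlgHom (R := k) ha).commutes c
    simp only [MvPowerSeries.algebraMap_apply, Algebra.algebraMap_self, RingHom.id_apply, substAlgHom_apply] at this
    exact this
  · exact substAlgHom_apply ha f

theorem subst_sum {a : Fin n → P} (ha : HasSubst a) {ι : Type*} (s : Finset ι) (f : ι → P) :
    subst a (∑ i ∈ s, f i) = ∑ i ∈ s, subst a (f i) := by
  simp only [← substAlgHom_apply ha]
  exact map_sum _ _ _

theorem subst_linSubst (M N : Matrix (Fin n) (Fin n) k) (f : P) :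
    subst (linSubst M) (subst (linSubst N) f) = subst (linSubst (N * M)) f := by
  rw [subst_comp_subst_apply (hasSubst_linSubst N) (hasSubst_linSubst M)]
  congr 1
  funext i
  simp only [linSubst]
  rw [subst_sum (hasSubst_linSubst M)]
  simp only [subst_C_mul (hasSubst_linSubst M), subst_X (hasSubst_linSubst M), linSubst,
    Matrix.mul_apply, map_sum, map_mul, Finset.sum_mul, Finset.mul_sum]
  rw [Finset.sum_comm]
  exact Finset.sum_congr rfl fun j _ => Finset.sum_congr rfl fun l _ => by ring

theorem linSubst_one : linSubst (1 : Matrix (Fin n) (Fin n) k) = (X : Fin n → P) := by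
  funext i
  simp [linSubst, Matrix.one_apply, apply_ite C, ite_mul]

/-- Formal inverse function theorem. -/
theorem subst_bijective (a : Fin n → P) (ha0 : ∀ i, constantCoeff (a i) = 0)
    (hli : LinearIndependent k fun i => lin (a i)) :
    Function.Bijective (subst a : P → P) := by
  let M : Matrix (Fin n) (Fin n) k := Matrix.of fun i j => lin (a i) j
  have hM : IsUnit M := Matrix.linearIndependent_rows_iff_isUnit.1 hli
  have hMd : IsUnit M.det := (Matrix.isUnit_iff_isUnit_det M).1 hM
  let h : Fin n → P := fun i => (∑ j, C (M⁻¹ i j) * a j) - X i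
  have hh : ∀ i, Morse19.O 2 (h i) := by
    intro i
    rw [O_two_iff]
    refine ⟨by simp [h, ha0], funext fun l => ?_⟩
    have e : ∀ j, lin (C (M⁻¹ i j) * a j) = M⁻¹ i j • lin (a j) := fun j => by
      rw [lin_mul_left _ _ ((mem_max_iff _).2 (ha0 j)), constantCoeff_C]
    simp only [h, map_sub, map_sum, e, Pi.sub_apply, Finset.sum_apply, Pi.smul_apply, smul_eq_mul,
      lin_X, Pi.zero_apply]
    have : (M⁻¹ * M) i l = (1 : Matrix (Fin n) (Fin n) k) i l := by rw [Matrix.nonsing_inv_mul M hMd]
    rw [Matrix.mul_apply] at this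
    simp only [M, Matrix.of_apply] at this
    rw [this, Matrix.one_apply, Pi.single_apply]
    simp [eq_comm]
  have hb := Morse19.subst_bijective h hh
  have hsa : HasSubst a := hasSubst_of_constantCoeff_zero ha0
  have hlinj : ∀ N N' : Matrix (Fin n) (Fin n) k, N' * N = 1 →
      Function.LeftInverse (subst (linSubst N) : P → P) (subst (linSubst N')) := by
    intro N N' hN f
    rw [subst_linSubst, hN, linSubst_one, subst_self]
    rfl
  have hcomp : (subst a : P → P) ∘ subst (linSubst M⁻¹) = (subst (fun i => X i + h i) : P → P) := by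
    funext f
    rw [Function.comp_apply, subst_comp_subst_apply (hasSubst_linSubst _) hsa]
    congr 1
    funext i
    simp only [linSubst, h]
    rw [subst_sum hsa]
    simp only [subst_C_mul hsa, subst_X hsa]
    ring
  have hbij : Function.Bijective (subst (linSubst M⁻¹) : P → P) :=
    ⟨(hlinj M M⁻¹ (Matrix.nonsing_inv_mul M hMd)).injective,
      (hlinj M⁻¹ M (Matrix.mul_nonsing_inv M hMd)).surjective⟩
  rw [← Function.Bijective.of_comp_iff _ hbij, hcomp]
  exact hb

/-- The ideal of `(n-1)`-minors of the Jacobian of a family. -/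
def minors {ι : Type*} (f : ι → P) : Ideal P :=
  Ideal.span {d : P | ∃ (ρ : Fin (n - 1) → ι) (γ : Fin (n - 1) → Fin n), Function.Injective ρ ∧
    Function.Injective γ ∧
      d = ((Matrix.of fun (j : ι) (i : Fin n) => pderiv k i (f j)).submatrix ρ γ).det}

theorem det_mem_minors {ι : Type*} (f : ι → P) (ρ : Fin (n - 1) → ι) (γ : Fin (n - 1) → Fin n)
    (hγ : Function.Injective γ) :
    ((Matrix.of fun (j : ι) (i : Fin n) => pderiv k i (f j)).submatrix ρ γ).det ∈ minors f := by
  classical
  by_cases hρ : Function.Injective ρ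
  · exact Ideal.subset_span ⟨ρ, γ, hρ, hγ, rfl⟩
  · obtain ⟨x, y, hxy, hne⟩ : ∃ x y, ρ x = ρ y ∧ x ≠ y := by
      simpa [Function.Injective] using hρ
    rw [Matrix.det_zero_of_row_eq hne (by funext i; simp [hxy])]
    exact zero_mem _

/-- Minors of a family contained in the ideal of another one. -/
theorem minors_le {ι κ : Type*} [Fintype κ] (f : ι → P) (g : κ → P)
    (h : ∀ j, f j ∈ Ideal.span (Set.range g)) :
    minors f ≤ minors g ⊔ Ideal.span (Set.range g) := by
  classical
  choose A hA using fun j => Ideal.mem_span_range_iff_exists_fun.1 (h j)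
  let I : Ideal P := Ideal.span (Set.range g)
  unfold minors
  rw [Ideal.span_le]
  rintro d ⟨ρ, γ, -, hγ, rfl⟩
  rw [SetLike.mem_coe]
  let π := Ideal.Quotient.mk I
  let v : κ → Fin (n - 1) → P ⧸ I := fun l c => π (pderiv k (γ c) (g l))
  suffices hq : π ((Matrix.of fun (j : ι) (i : Fin n) => pderiv k i (f j)).submatrix ρ γ).det ∈
      (minors g).map π by
    change _ ∈ minors g ⊔ Ideal.span (Set.range g)
    rw [show minors g ⊔ Ideal.span (Set.range g) = ((minors g).map π).comap π by
      rw [Ideal.comap_map_of_surjective _ Ideal.Quotient.mk_surjective, ← RingHom.ker_eq_comap_bot,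
        show RingHom.ker π = I from Ideal.mk_ker]]
    exact hq
  rw [RingHom.map_det]
  have hrow : (fun i c => π (pderiv k (γ c) (f (ρ i)))) =
      fun i => ∑ l, π (A (ρ i) l) • v l := by
    funext i c
    rw [← hA (ρ i), map_sum, map_sum, Finset.sum_apply]
    refine Finset.sum_congr rfl fun l _ => ?_
    rw [Derivation.leibniz, map_add, smul_eq_mul, smul_eq_mul, map_mul, map_mul,
      (Ideal.Quotient.eq_zero_iff_mem).2 (Ideal.subset_span ⟨l, rfl⟩ : g l ∈ I), zero_mul, add_zero,
      Pi.smul_apply, smul_eq_mul]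
  show Matrix.detRowAlternating (fun i c => π (pderiv k (γ c) (f (ρ i)))) ∈ _
  rw [hrow]
  change Matrix.detRowAlternating.toMultilinearMap _ ∈ _
  rw [MultilinearMap.map_sum]
  refine Ideal.sum_mem _ fun r _ => ?_
  rw [MultilinearMap.map_smul_univ, smul_eq_mul]
  refine Ideal.mul_mem_left _ _ ?_
  have h2 := Ideal.mem_map_of_mem π (det_mem_minors g r γ hγ)
  rw [RingHom.map_det] at h2
  exact h2

theorem minors_sup_eq {ι κ : Type*} [Fintype ι] [Fintype κ] (f : ι → P) (g : κ → P)
    (h : Ideal.span (Set.range f) = Ideal.span (Set.range g)) :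
    minors f ⊔ Ideal.span (Set.range f) = minors g ⊔ Ideal.span (Set.range g) := by
  apply le_antisymm
  · exact sup_le (minors_le f g fun j => h ▸ Ideal.subset_span ⟨j, rfl⟩) (h.le.trans le_sup_right)
  · exact sup_le (minors_le g f fun j => h.symm ▸ Ideal.subset_span ⟨j, rfl⟩) (h.ge.trans le_sup_right)

end Groth.Agent.NodeJac3
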