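/-
Nodes in two variables over a field.
-/
import Groth.Agent.Lib.NodeJac3.Basic
import Groth.Agent.Lib.Depth3.Zero
import Groth.Agent.Lib.RegLoc.UFD
import Mathlib.RingTheory.UniqueFactorizationDomain.Ideal

set_option autoImplicit false
set_option linter.style.haveILetI false

noncomputable section

universe u

open MvPowerSeries IsLocalRing

namespace Groth.Agent.NodeJac3

variable {k : Type u} [Field k]

local notation "Q2" => MvPowerSeries (Fin 2) k

/-- The binary quadratic form `a U² + b U V + c V²`. -/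
def quad (a b c : k) : MvPowerSeries (Fin 2) k :=
  C a * X 0 ^ 2 + C b * X 0 * X 1 + C c * X 1 ^ 2

/-- Coefficient of `U²`. -/
def cA : MvPowerSeries (Fin 2) k →ₗ[k] k := MvPowerSeries.coeff (Finsupp.single 0 2)
/-- Coefficient of `UV`. -/
def cB : MvPowerSeries (Fin 2) k →ₗ[k] k :=
  MvPowerSeries.coeff (Finsupp.single 0 1 + Finsupp.single 1 1)
/-- Coefficient of `V²`. -/
def cC : MvPowerSeries (Fin 2) k →ₗ[k] k := MvPowerSeries.coeff (Finsupp.single 1 2)

theorem quad_eq_monomial (a b c : k) :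
    quad a b c = monomial (Finsupp.single 0 2) a +
      monomial (Finsupp.single 0 1 + Finsupp.single 1 1) b + monomial (Finsupp.single 1 2) c := by
  simp only [quad, pow_two, ← monomial_zero_eq_C_apply, X_def, monomial_mul_monomial, zero_add, mul_one,
    ← Finsupp.single_add]

theorem coeff_quad (a b c : k) (d : Fin 2 →₀ ℕ) :
    coeff d (quad a b c) = (if d 0 = 2 ∧ d 1 = 0 then a else 0) +
      (if d 0 = 1 ∧ d 1 = 1 then b else 0) + (if d 0 = 0 ∧ d 1 = 2 then c else 0) := by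
  classical
  simp only [quad_eq_monomial, map_add, coeff_monomial, Finsupp.ext_iff, Fin.forall_fin_two,
    Finsupp.add_apply, Finsupp.single_eq_same, ne_eq, zero_ne_one, one_ne_zero, not_false_eq_true,
    Finsupp.single_eq_of_ne, add_zero, zero_add]

theorem cA_quad (a b c : k) : cA (quad a b c) = a := by simp [cA, coeff_quad]
theorem cB_quad (a b c : k) : cB (quad a b c) = b := by simp [cB, coeff_quad]
theorem cC_quad (a b c : k) : cC (quad a b c) = c := by simp [cC, coeff_quad]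

theorem degree_fin_two (d : Fin 2 →₀ ℕ) : d.degree = d 0 + d 1 := by
  rw [Finsupp.degree_eq_sum, Fin.sum_univ_two]

theorem O_quad (a b c : k) : Morse19.O 2 (quad a b c : Q2) := by
  rw [Morse19.O_iff]
  intro d hd
  rw [degree_fin_two] at hd
  rw [coeff_quad, if_neg (by omega), if_neg (by omega), if_neg (by omega), add_zero, add_zero]

theorem O_sub_quad {f : Q2} (hf : Morse19.O 2 f) : Morse19.O 3 (f - quad (cA f) (cB f) (cC f)) := by
  rw [Morse19.O_iff]
  intro d hd
  by_cases h : d.degree < 2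
  · exact Morse19.O_iff.1 (hf.sub (O_quad _ _ _)) d h
  rw [degree_fin_two] at hd h
  rw [map_sub, coeff_quad, sub_eq_zero]
  rcases (show (d 0 = 2 ∧ d 1 = 0) ∨ (d 0 = 1 ∧ d 1 = 1) ∨ (d 0 = 0 ∧ d 1 = 2) by omega) with e | e | e
  all_goals
    rw [show d = Finsupp.single 0 (d 0) + Finsupp.single 1 (d 1) by
      ext i; fin_cases i <;> simp]
    simp [e, cA, cB, cC]

/-- The discriminant form of the quadratic part. -/
def disc (f : MvPowerSeries (Fin 2) k) : k := 4 * cA f * cC f - cB f ^ 2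

theorem ne_zero_of_disc {f : Q2} (hf : disc f ≠ 0) : f ≠ 0 := fun h => hf (by simp [h, disc])

theorem exists_disc_ne_zero (J : Ideal Q2)
    (h : ∀ x y : k, (∀ w ∈ J, x * (2 * cA w) + y * cB w = 0 ∧ x * cB w + y * (2 * cC w) = 0) →
      x = 0 ∧ y = 0) :
    ∃ w ∈ J, disc w ≠ 0 := by
  by_contra hall
  simp only [not_exists, not_and, not_not] at hall
  have hcross : ∀ w ∈ J, ∀ w' ∈ J, 4 * cA w * cC w' - cB w * cB w' = 0 ∧
      2 * (cA w * cB w' - cA w' * cB w) = 0 ∧ 2 * (cC w * cB w' - cC w' * cB w) = 0 := by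
    intro w hw w' hw'
    have e1 : 4 * cA w * cC w - cB w ^ 2 = 0 := hall w hw
    have e2 : 4 * cA w' * cC w' - cB w' ^ 2 = 0 := hall w' hw'
    have e3 : 4 * cA (w + w') * cC (w + w') - cB (w + w') ^ 2 = 0 := hall _ (J.add_mem hw hw')
    simp only [map_add] at e3
    have hxy : (4 * cA w * cC w' - cB w * cB w') + (4 * cA w' * cC w - cB w * cB w') = 0 := by
      linear_combination e3 - e1 - e2
    have hprod : (4 * cA w * cC w' - cB w * cB w') * (4 * cA w' * cC w - cB w * cB w') = 0 := by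
      linear_combination (4 * cA w' * cC w') * e1 + cB w ^ 2 * e2 - (cB w * cB w') * hxy
    have hx : 4 * cA w * cC w' - cB w * cB w' = 0 := by
      refine pow_eq_zero_iff (n := 2) two_ne_zero |>.1 ?_
      linear_combination (4 * cA w * cC w' - cB w * cB w') * hxy - hprod
    refine ⟨hx, ?_, ?_⟩
    · refine pow_eq_zero_iff (n := 2) two_ne_zero |>.1 ?_
      linear_combination (-4 * cA w ^ 2) * e2 + (-4 * cA w' ^ 2) * e1 + (4 * cA w * cA w') * hxy
    · refine pow_eq_zero_iff (n := 2) two_ne_zero |>.1 ?_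
      linear_combination (-4 * cC w ^ 2) * e2 + (-4 * cC w' ^ 2) * e1 + (4 * cC w * cC w') * hxy
  by_cases h0 : ∀ w ∈ J, 2 * cA w = 0 ∧ cB w = 0 ∧ 2 * cC w = 0
  · exact one_ne_zero (h 1 0 fun w hw => ⟨by simp [(h0 w hw).1], by simp [(h0 w hw).2.1]⟩).1
  simp only [not_forall] at h0
  obtain ⟨w0, hw0, h0⟩ := h0
  by_cases h1 : 2 * cA w0 = 0 ∧ cB w0 = 0
  · have h2 : 2 * cC w0 ≠ 0 := fun h2 => h0 ⟨h1.1, h1.2, h2⟩
    refine h2 (h (2 * cC w0) (- cB w0) fun w hw => ?_).1
    obtain ⟨p1, p2, p3⟩ := hcross w0 hw0 w hw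
    obtain ⟨q1, q2, q3⟩ := hcross w hw w0 hw0
    exact ⟨by linear_combination q1, by linear_combination p3⟩
  · refine h1 ⟨?_, ?_⟩
    · have := (h (cB w0) (-(2 * cA w0)) fun w hw => ?_).2
      · linear_combination -this
      obtain ⟨p1, p2, p3⟩ := hcross w0 hw0 w hw
      obtain ⟨q1, q2, q3⟩ := hcross w hw w0 hw0
      exact ⟨by linear_combination -p2, by linear_combination -p1⟩
    · refine (h (cB w0) (-(2 * cA w0)) fun w hw => ?_).1
      obtain ⟨p1, p2, p3⟩ := hcross w0 hw0 w hw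
      obtain ⟨q1, q2, q3⟩ := hcross w hw w0 hw0
      exact ⟨by linear_combination -p2, by linear_combination -p1⟩

theorem squarefree_of_disc {f : Q2} (hf : Morse19.O 2 f) (hd : disc f ≠ 0) : Squarefree f := by
  intro π hπ
  by_contra hu
  obtain ⟨e, rfl⟩ := hπ
  have hπ0 : constantCoeff π = 0 := (mem_max_iff π).1 ((mem_maximalIdeal _).2 hu)
  let L : Q2 := C (lin π 0) * X 0 + C (lin π 1) * X 1
  have hL : Morse19.O 2 (π - L) := by
    rw [O_two_iff]
    refine ⟨by simp [L, hπ0], funext fun i => ?_⟩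
    simp only [L, map_sub, map_add, Pi.sub_apply, Pi.add_apply, Pi.zero_apply,
      lin_mul_left _ _ ((mem_max_iff _).2 (constantCoeff_X _)), constantCoeff_C, lin_X, Pi.smul_apply]
    fin_cases i <;> simp
  have hL1 : Morse19.O 1 L :=
    ((Morse19.O_X 0).mul_left _).add ((Morse19.O_X 1).mul_left _)
  have hπ1 : Morse19.O 1 π := by
    have h := (hL.mono one_le_two).add hL1
    rwa [sub_add_cancel] at h
  have he : Morse19.O 1 (e - C (constantCoeff e)) := by
    rw [Morse19.O_iff]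
    intro d hd
    rw [(Finsupp.degree_eq_zero_iff d).1 (by omega), coeff_zero_eq_constantCoeff_apply]
    simp
  let ec := constantCoeff e
  have key : Morse19.O 3 (π * π * e -
      quad (ec * lin π 0 ^ 2) (ec * (2 * lin π 0 * lin π 1)) (ec * lin π 1 ^ 2)) := by
    have e1 : quad (ec * lin π 0 ^ 2) (ec * (2 * lin π 0 * lin π 1)) (ec * lin π 1 ^ 2) =
        L * L * C ec := by simp [quad, L, map_ofNat]; ring
    rw [e1, show π * π * e - L * L * C ec =
      π * π * (e - C ec) + (π - L) * π * C ec + L * (π - L) * C ec by ring]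
    refine ((((hπ1.mul hπ1).mul he).mono le_rfl).add ?_).add ?_
    · exact ((hL.mul hπ1).mul (Morse19.O_zero_left _)).mono le_rfl
    · exact ((hL1.mul hL).mul (Morse19.O_zero_left _)).mono le_rfl
  apply hd
  have hA := Morse19.O_iff.1 key (Finsupp.single 0 2) (by simp [degree_fin_two])
  have hB := Morse19.O_iff.1 key (Finsupp.single 0 1 + Finsupp.single 1 1) (by simp [degree_fin_two])
  have hC := Morse19.O_iff.1 key (Finsupp.single 1 2) (by simp [degree_fin_two])
  rw [map_sub, sub_eq_zero] at hA hB hC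
  simp only [disc, cA, cB, cC]
  rw [hA, hB, hC]
  change 4 * cA (quad _ _ _) * cC (quad _ _ _) - cB (quad _ _ _) ^ 2 = 0
  rw [cA_quad, cB_quad, cC_quad]
  ring

theorem no_socle_of_disc {f : Q2} (hf : Morse19.O 2 f) (hd : disc f ≠ 0) {z : Q2}
    (hz : ∀ x ∈ maximalIdeal Q2, x * z ∈ Ideal.span {f}) : z ∈ Ideal.span {f} := by
  haveI := H2Alg.PSHom.isRegularLocalRing k 2
  haveI : UniqueFactorizationMonoid Q2 := RegLoc.ufd_of_isRegularLocalRing _
  by_cases hu : IsUnit z
  · exfalso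
    obtain ⟨u, rfl⟩ := hu
    have h1 := Ideal.mul_mem_right (↑u⁻¹ : Q2) _ (hz (X 0) ((mem_max_iff _).2 (constantCoeff_X 0)))
    rw [mul_assoc, Units.mul_inv, mul_one, Ideal.mem_span_singleton] at h1
    obtain ⟨e, he⟩ := h1
    have hO : Morse19.O 2 (X 0 : Q2) := by
      rw [he]; exact (hf.mul (Morse19.O_zero_left e)).mono le_rfl
    have := congrFun ((O_two_iff _).1 hO).2 0
    rw [lin_X] at this
    simp at this
  · rw [Ideal.mem_span_singleton]
    refine (squarefree_of_disc hf hd).isRadical 2 z ?_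
    rw [← Ideal.mem_span_singleton, pow_two]
    exact hz z ((mem_maximalIdeal _).2 hu)

/-- An ideal without socle containing a nondegenerate element of order two is principal. -/
theorem eq_span_of_no_socle (J : Ideal Q2) (hJ : ∀ w ∈ J, Morse19.O 2 w) {h : Q2} (hh : h ∈ J)
    (hd : disc h ≠ 0) (hsoc : ∀ z, (∀ x ∈ maximalIdeal Q2, x * z ∈ J) → z ∈ J) :
    J = Ideal.span {h} := by
  haveI := H2Alg.PSHom.isRegularLocalRing k 2
  haveI : UniqueFactorizationMonoid Q2 := RegLoc.ufd_of_isRegularLocalRing _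
  haveI : IsDomain Q2 := NoZeroDivisors.to_isDomain _
  have hh0 : h ≠ 0 := ne_zero_of_disc hd
  obtain ⟨K, ⟨d, hdK⟩, hmax⟩ := set_has_maximal_iff_noetherian.2 inferInstance
    {K : Ideal Q2 | ∃ d : Q2, J = Ideal.span {d} * K} ⟨J, 1, by simp⟩
  have hd0 : d ≠ 0 := by
    rintro rfl
    rw [Ideal.span_singleton_zero, Ideal.bot_mul] at hdK
    exact hh0 (by rw [hdK] at hh; exact Ideal.mem_bot.1 hh)
  have hK0 : K ≠ ⊥ := by
    rintro rfl
    rw [Ideal.mul_bot] at hdK
    exact hh0 (by rw [hdK] at hh; exact Ideal.mem_bot.1 hh)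
  have hnp : ∀ π : Q2, Prime π → ¬ K ≤ Ideal.span {π} := by
    intro π hπ hle
    obtain ⟨K', rfl⟩ : ∃ K' : Ideal Q2, K = Ideal.span {π} * K' := by
      refine ⟨Submodule.comap (LinearMap.mulLeft Q2 π) K, Submodule.ext fun x => ?_⟩
      rw [Ideal.mem_span_singleton_mul]
      refine ⟨fun hx => ?_, fun ⟨y, hy, e⟩ => e ▸ hy⟩
      obtain ⟨y, rfl⟩ := Ideal.mem_span_singleton.1 (hle hx)
      exact ⟨y, hx, rfl⟩
    have hmem : K' ∈ {K : Ideal Q2 | ∃ d : Q2, J = Ideal.span {d} * K} :=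
      ⟨d * π, by rw [← Ideal.span_singleton_mul_span_singleton, mul_assoc, ← hdK]⟩
    refine hmax K' hmem (lt_of_le_of_ne Ideal.mul_le_right ?_)
    intro e
    apply hK0
    rw [e]
    refine Submodule.eq_bot_of_le_smul_of_le_jacobson_bot (Ideal.span {π}) K' (IsNoetherian.noetherian _)
      (by rw [smul_eq_mul]; exact e.ge) ?_
    refine le_trans (IsLocalRing.le_maximalIdeal ?_) (IsLocalRing.maximalIdeal_le_jacobson _)
    rw [Ne, Ideal.span_singleton_eq_top]
    exact hπ.not_unit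
  have hKtop : K = ⊤ := by
    by_contra hK
    have hrad : maximalIdeal Q2 ≤ Ideal.radical K := by
      rw [Ideal.radical_eq_sInf]
      refine le_sInf fun p ⟨hle, hp⟩ => ?_
      by_contra hne
      have hp0 : p ≠ ⊥ := fun e => hK0 (le_bot_iff.1 (e ▸ hle))
      obtain ⟨π, hπp, hπ⟩ := hp.exists_mem_prime_of_ne_bot hp0
      haveI := hp
      haveI : (Ideal.span {π}).IsPrime := (Ideal.span_singleton_prime hπ.ne_zero).2 hπ
      have hlt1 : (⊥ : Ideal Q2) < Ideal.span {π} := bot_lt_iff_ne_bot.2 (by simp [hπ.ne_zero])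
      have hlt3 : p < maximalIdeal Q2 :=
        lt_of_le_of_ne (le_maximalIdeal hp.ne_top) (fun e => hne e.ge)
      have hneπ : Ideal.span {π} ≠ p := fun e => hnp π hπ (e.symm ▸ hle)
      have hlt2 : Ideal.span {π} < p :=
        lt_of_le_of_ne ((Ideal.span_singleton_le_iff_mem _).2 hπp) hneπ
      have h1 := Ideal.height_add_one_le_of_lt_of_isPrime hlt1
      have h2 := Ideal.height_add_one_le_of_lt_of_isPrime hlt2
      have h3 := Ideal.height_add_one_le_of_lt_of_isPrime hlt3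
      have h4 := Ideal.height_le_ringKrullDim_of_ne_top (maximalIdeal.isMaximal Q2).ne_top
      rw [H2Alg.PSHom.ringKrullDim_eq k 2] at h4
      have h4' : (maximalIdeal Q2).height ≤ ((2 : ℕ) : ℕ∞) := WithBot.coe_le_coe.1 h4
      have h6 : (3 : ℕ∞) ≤ (maximalIdeal Q2).height := by
        refine le_trans ?_ h3
        refine le_trans ?_ (add_le_add h2 le_rfl)
        refine le_trans ?_ (add_le_add (add_le_add h1 le_rfl) le_rfl)
        rw [show (3 : ℕ∞) = 0 + 1 + 1 + 1 by norm_num]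
        gcongr
        exact zero_le
      exact absurd (h6.trans h4') (by norm_num)
    obtain ⟨N, hN⟩ := Ideal.exists_pow_le_of_le_radical_of_fg hrad (IsNoetherian.noetherian _)
    classical
    obtain ⟨j, hj, hmin⟩ : ∃ j, maximalIdeal Q2 ^ j ≤ K ∧ ∀ i < j, ¬ maximalIdeal Q2 ^ i ≤ K :=
      ⟨Nat.find ⟨N, hN⟩, Nat.find_spec (⟨N, hN⟩ : ∃ N, maximalIdeal Q2 ^ N ≤ K), fun i hi => Nat.find_min _ hi⟩
    obtain ⟨i, rfl⟩ : ∃ i, j = i + 1 := ⟨j - 1, by
      rcases Nat.eq_zero_or_pos j with rfl | hp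
      · exact absurd (top_le_iff.1 (by simpa using hj)) hK
      · omega⟩
    obtain ⟨z, hz, hzK⟩ := SetLike.not_le_iff_exists.1 (hmin i (Nat.lt_succ_self i))
    refine hzK ?_
    have : d * z ∈ J := hsoc _ fun x hx => by
      rw [hdK, mul_left_comm]
      refine Ideal.mul_mem_mul (Ideal.mem_span_singleton_self d) (hj ?_)
      rw [pow_succ']
      exact Ideal.mul_mem_mul hx hz
    rw [hdK, Ideal.mem_span_singleton_mul] at this
    obtain ⟨z', hz', e⟩ := this
    exact mul_left_cancel₀ hd0 e ▸ hz'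
  rw [hKtop, Ideal.mul_top] at hdK
  obtain ⟨e, he⟩ : d ∣ h := Ideal.mem_span_singleton.1 (hdK ▸ hh)
  have hdO : Morse19.O 2 d := hJ d (hdK ▸ Ideal.mem_span_singleton_self d)
  have hu : IsUnit e := by
    by_contra hu
    apply hd
    have he0 : constantCoeff e = 0 := (mem_max_iff e).1 ((mem_maximalIdeal _).2 hu)
    have he1 : Morse19.O 1 e := by
      rw [Morse19.O_iff]
      intro t ht
      rw [(Finsupp.degree_eq_zero_iff t).1 (by omega), coeff_zero_eq_constantCoeff_apply, he0]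
    have h3 : Morse19.O 3 h := he ▸ hdO.mul he1
    simp only [disc, cA, cB, cC]
    rw [Morse19.O_iff.1 h3 _ (by simp [degree_fin_two]), Morse19.O_iff.1 h3 _ (by simp [degree_fin_two]),
      Morse19.O_iff.1 h3 _ (by simp [degree_fin_two])]
    ring
  rw [hdK, he, Ideal.span_singleton_mul_right_unit hu]

/-- Normal form. -/
theorem exists_algEquiv_quad {h : Q2} (hO : Morse19.O 2 h) (hd : disc h ≠ 0) :
    Nonempty ((Q2 ⧸ Ideal.span {h}) ≃ₐ[k] (Q2 ⧸ Ideal.span {quad (cA h) (cB h) (cC h)})) := by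
  let q : Fin 2 → Fin 2 → k := VanCyc.quadPart h
  have hq0 : q 0 0 = cA h := by simp [q, VanCyc.quadPart, cA]
  have hq1 : q 0 1 = cB h := by simp [q, VanCyc.quadPart, cB]
  have hq2 : q 1 1 = cC h := by simp [q, VanCyc.quadPart, cC]
  have hqn : VanCyc.QuadNondeg q := by
    rw [VanCyc.QuadNondeg, isUnit_iff_ne_zero, Matrix.det_fin_two]
    simp only [VanCyc.polarMatrix, hq0, hq1, hq2, Fin.isValue, zero_ne_one, one_ne_zero, reduceIte,
      Fin.zero_lt_one, not_lt_zero, if_false, if_true]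
    intro e
    exact hd (by simp only [disc]; linear_combination e)
  have hpoly : ((VanCyc.quadPoly q + MvPolynomial.C 0 : MvPolynomial (Fin 2) k) : Q2) =
      quad (cA h) (cB h) (cC h) := by
    simp [VanCyc.quadPoly, Fin.sum_univ_two, hq0, hq1, hq2, quad]
    ring
  obtain ⟨g, hg, hgh⟩ := Morse19.exists_morse 2 le_rfl q hqn 0 h (by rw [hpoly]; exact O_sub_quad hO)
  rw [hpoly] at hgh
  have hb := Morse19.subst_bijective g hg
  have hs := Morse19.hasSubst_of_O (Morse19.O_X_add (one_le_two) hg)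
  let e : Q2 ≃ₐ[k] Q2 := AlgEquiv.ofBijective (substAlgHom hs) (by rw [coe_substAlgHom]; exact hb)
  refine ⟨Ideal.quotientEquivAlg _ _ e ?_⟩
  rw [Ideal.map_span, Set.image_singleton]
  congr 2
  refine hgh.symm.trans ?_
  exact (substAlgHom_apply hs h).symm

end Groth.Agent.NodeJac3
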