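/-
Elimination of variables and the Jacobian ideal of a node.
-/
import Groth.Agent.Lib.NodeJac3.Two
import Mathlib.RingTheory.Filtration
import Mathlib.LinearAlgebra.Matrix.Determinant.Basic

set_option autoImplicit false
set_option linter.style.haveILetI false

noncomputable section

universe u

open MvPowerSeries IsLocalRing

namespace Groth.Agent.NodeJac3

variable {k : Type u} [Field k] {r : ℕ}

local notation "P" => MvPowerSeries (Fin (r + 2)) k
local notation "Q2" => MvPowerSeries (Fin 2) k

/-- The first distinguished index. -/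
def iu (r : ℕ) : Fin (r + 2) := (Fin.last r).castSucc
/-- The second distinguished index. -/
def iv (r : ℕ) : Fin (r + 2) := Fin.last (r + 1)
/-- The other indices. -/
def ig {r : ℕ} (l : Fin r) : Fin (r + 2) := l.castSucc.castSucc

theorem ig_ne_iu {r : ℕ} (l : Fin r) : ig l ≠ iu r := fun h => by
  have := congrArg Fin.val h; simp [ig, iu] at this; omega

theorem ig_ne_iv {r : ℕ} (l : Fin r) : ig l ≠ iv r := fun h => by
  have := congrArg Fin.val h; simp [ig, iv] at this; omega

theorem iu_ne_iv (r : ℕ) : iu r ≠ iv r := fun h => by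
  have := congrArg Fin.val h; simp [iu, iv] at this

theorem index_cases {r : ℕ} (i : Fin (r + 2)) : (∃ l, i = ig l) ∨ i = iu r ∨ i = iv r := by
  refine Fin.lastCases (Or.inr (Or.inr rfl)) (fun j => ?_) i
  refine Fin.lastCases (Or.inr (Or.inl rfl)) (fun l => Or.inl ⟨l, rfl⟩) j

/-- Projection to the two distinguished variables. -/
def bvec (r : ℕ) : Fin (r + 2) → MvPowerSeries (Fin 2) k :=
  Fin.snoc (Fin.snoc (fun _ => 0) (X 0)) (X 1)

theorem bvec_ig (l : Fin r) : (bvec r (ig l) : Q2) = 0 := by simp [bvec, ig]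
theorem bvec_iu : (bvec r (iu r) : Q2) = X 0 := by simp [bvec, iu]
theorem bvec_iv : (bvec r (iv r) : Q2) = X 1 := by simp [bvec, iv]

theorem hasSubst_bvec : HasSubst (bvec r : Fin (r + 2) → Q2) :=
  hasSubst_of_constantCoeff_zero fun i => by
    rcases index_cases i with ⟨l, rfl⟩ | rfl | rfl
    · simp [bvec_ig]
    · simp [bvec_iu]
    · simp [bvec_iv]

theorem hasSubst_cvec : HasSubst (![X (iu r), X (iv r)] : Fin 2 → P) :=
  hasSubst_of_constantCoeff_zero fun i => by fin_cases i <;> simp

/-- The ideal of the eliminated variables. -/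
def elimIdeal (r : ℕ) : Ideal (MvPowerSeries (Fin (r + 2)) k) :=
  Ideal.span (Set.range fun l : Fin r => X (ig l))

theorem coeff_bvec (g : P) (d : Fin (r + 2) →₀ ℕ) (hd : ∀ l : Fin r, d (ig l) = 0) :
    coeff (Finsupp.single 0 (d (iu r)) + Finsupp.single 1 (d (iv r))) (subst (bvec r) g : Q2) =
      coeff d g := by
  classical
  have hprod : ∀ d' : Fin (r + 2) →₀ ℕ, (d'.prod fun i m => (bvec r i : Q2) ^ m) =
      (∏ l : Fin r, (0 : Q2) ^ d' (ig l)) * X 0 ^ d' (iu r) * X 1 ^ d' (iv r) := fun d' => by
    rw [Finsupp.prod_fintype _ _ (fun i => pow_zero _), Fin.prod_univ_castSucc, Fin.prod_univ_castSucc]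
    simp only [bvec, Fin.snoc_castSucc, Fin.snoc_last, ig, iu, iv]
  rw [coeff_subst hasSubst_bvec, finsum_eq_single _ d]
  · have h1 : (∏ l : Fin r, (0 : Q2) ^ d (ig l)) = 1 := Finset.prod_eq_one fun l _ => by rw [hd l, pow_zero]
    rw [hprod, h1, one_mul, X_pow_eq, X_pow_eq, monomial_mul_monomial, coeff_monomial_same, one_mul,
      smul_eq_mul, mul_one]
  · intro d' hne
    rw [hprod]
    by_cases h : ∀ l : Fin r, d' (ig l) = 0
    · have h1 : (∏ l : Fin r, (0 : Q2) ^ d' (ig l)) = 1 := Finset.prod_eq_one fun l _ => by rw [h l, pow_zero]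
      rw [h1, one_mul, X_pow_eq, X_pow_eq, monomial_mul_monomial, coeff_monomial_ne, smul_zero]
      intro e
      apply hne
      refine Finsupp.ext fun i => ?_
      have e0 := DFunLike.congr_fun e 0
      have e1 := DFunLike.congr_fun e 1
      simp at e0 e1
      rcases index_cases i with ⟨l, rfl⟩ | rfl | rfl
      · rw [h l, hd l]
      · omega
      · omega
    · obtain ⟨l, hl⟩ := not_forall.1 h
      rw [Finset.prod_eq_zero (Finset.mem_univ l) (zero_pow hl), zero_mul, zero_mul, map_zero, smul_zero]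

theorem mem_elimIdeal_of_subst_eq_zero (g : P) (hg : (subst (bvec r) g : Q2) = 0) :
    g ∈ (elimIdeal r : Ideal P) := by
  have hcoeff : ∀ d : Fin (r + 2) →₀ ℕ, (∀ l : Fin r, d (ig l) = 0) → coeff d g = 0 := fun d hd => by
    rw [← coeff_bvec g d hd, hg, map_zero]
  have h0 : constantCoeff g = 0 := by
    rw [← coeff_zero_eq_constantCoeff_apply]; exact hcoeff 0 fun l => rfl
  rw [← Morse19.sum_X_mul_D g h0]
  refine Ideal.sum_mem _ fun i _ => ?_
  rcases index_cases i with ⟨l, rfl⟩ | hi
  · exact Ideal.mul_mem_right _ _ (Ideal.subset_span ⟨l, rfl⟩)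
  have hD : Morse19.D i g = 0 := by
    ext e
    rw [Morse19.coeff_D, map_zero]
    split_ifs with h
    · refine hcoeff _ fun l => ?_
      have hlt : ig l < i := by
        rcases hi with rfl | rfl <;> simp [ig, iu, iv, Fin.lt_def]
        all_goals omega
      rw [Finsupp.add_apply, h _ hlt, Finsupp.single_eq_of_ne hlt.ne, add_zero]
    · rfl
  rw [hD, mul_zero]
  exact zero_mem _

variable (a : Fin (r + 2) → MvPowerSeries (Fin (r + 2)) k) (ha : ∀ i, constantCoeff (a i) = 0)
  (hli : LinearIndependent k fun i => lin (a i))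

/-- The coordinate change attached to a frame. -/
def frameEquiv : P ≃ₐ[k] P :=
  AlgEquiv.ofBijective (substAlgHom (hasSubst_of_constantCoeff_zero ha))
    (by rw [coe_substAlgHom]; exact subst_bijective a ha hli)

theorem frameEquiv_X (i : Fin (r + 2)) : frameEquiv a ha hli (X i) = a i :=
  substAlgHom_X (hasSubst_of_constantCoeff_zero ha) i

/-- Elimination of the first `r` members of a frame. -/
def el : P →ₐ[k] MvPowerSeries (Fin 2) k :=
  (substAlgHom (hasSubst_bvec (k := k) (r := r))).comp (frameEquiv a ha hli).symm.toAlgHom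

theorem el_a (i : Fin (r + 2)) : el a ha hli (a i) = bvec r i := by
  rw [el, AlgHom.comp_apply]
  change substAlgHom _ ((frameEquiv a ha hli).symm (a i)) = _
  rw [show (frameEquiv a ha hli).symm (a i) = X i from
    (AlgEquiv.symm_apply_eq _).2 (frameEquiv_X a ha hli i).symm, substAlgHom_X]

theorem el_surjective : Function.Surjective (el a ha hli) := by
  intro f
  refine ⟨frameEquiv a ha hli (substAlgHom (hasSubst_cvec (k := k) (r := r)) f), ?_⟩
  rw [el, AlgHom.comp_apply]
  change substAlgHom _ ((frameEquiv a ha hli).symm (frameEquiv a ha hli _)) = f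
  rw [AlgEquiv.symm_apply_apply, substAlgHom_apply, substAlgHom_apply,
    subst_comp_subst_apply hasSubst_cvec hasSubst_bvec]
  have e : (fun s => subst (bvec r) ((![X (iu r), X (iv r)] : Fin 2 → P) s)) = (X : Fin 2 → Q2) := by
    funext s
    fin_cases s <;> simp [subst_X hasSubst_bvec, bvec_iu, bvec_iv]
  rw [e, subst_self]
  rfl

theorem ker_el : RingHom.ker (el a ha hli) = Ideal.span (Set.range fun l : Fin r => a (ig l)) := by
  apply le_antisymm
  · intro z hz
    obtain ⟨w, rfl⟩ := (frameEquiv a ha hli).surjective z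
    rw [RingHom.mem_ker, el, AlgHom.comp_apply] at hz
    change substAlgHom _ ((frameEquiv a ha hli).symm (frameEquiv a ha hli w)) = 0 at hz
    rw [AlgEquiv.symm_apply_apply] at hz
    rw [substAlgHom_apply] at hz
    have h := mem_elimIdeal_of_subst_eq_zero w hz
    have h2 := Ideal.mem_map_of_mem (frameEquiv a ha hli).toRingEquiv.toRingHom h
    rw [elimIdeal, Ideal.map_span, ← Set.range_comp] at h2
    refine Ideal.span_mono ?_ h2
    rintro _ ⟨l, rfl⟩
    exact ⟨l, (frameEquiv_X a ha hli _).symm⟩
  · rw [Ideal.span_le]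
    rintro _ ⟨l, rfl⟩
    rw [SetLike.mem_coe, RingHom.mem_ker, el_a, bvec_ig]

include ha hli in
theorem span_frame : Ideal.span (Set.range a) = maximalIdeal P := by
  apply le_antisymm
  · rw [Ideal.span_le]
    rintro _ ⟨i, rfl⟩
    exact (mem_max_iff _).2 (ha i)
  · intro z hz
    obtain ⟨w, rfl⟩ := (frameEquiv a ha hli).surjective z
    have hw : constantCoeff w = 0 := by
      rw [← mem_max_iff]
      exact fun hu => hz (hu.map (frameEquiv a ha hli))
    rw [← Morse19.sum_X_mul_D w hw, map_sum]
    refine Ideal.sum_mem _ fun i _ => ?_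
    rw [map_mul, frameEquiv_X]
    exact Ideal.mul_mem_right _ _ (Ideal.subset_span ⟨i, rfl⟩)

/-- The quadratic element of a frame. -/
def G (A B C₀ : k) : P :=
  C A * a (iu r) ^ 2 + C B * a (iu r) * a (iv r) + C C₀ * a (iv r) ^ 2

theorem el_G (A B C₀ : k) : el a ha hli (G a A B C₀) = quad A B C₀ := by
  have hC : ∀ c : k, el a ha hli (C c) = C c := fun c => (el a ha hli).commutes c
  simp only [G, map_add, map_mul, map_pow, el_a, bvec_iu, bvec_iv, hC, quad]

/-- `∂Q/∂u` along a frame. -/
def Qu (A B : k) : P := C (2 * A) * a (iu r) + C B * a (iv r)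
/-- `∂Q/∂v` along a frame. -/
def Qv (B C₀ : k) : P := C B * a (iu r) + C (2 * C₀) * a (iv r)

theorem pderiv_G (A B C₀ : k) (i : Fin (r + 2)) :
    pderiv k i (G a A B C₀) = Qu a A B * pderiv k i (a (iu r)) + Qv a B C₀ * pderiv k i (a (iv r)) := by
  simp only [G, Qu, Qv, map_add, Derivation.leibniz, smul_eq_mul, pderiv_C, pow_two, map_mul, map_ofNat]
  ring

/-- The Jacobian of the frame. -/
def jac : Matrix (Fin (r + 2)) (Fin (r + 2)) P := Matrix.of fun s i => pderiv k i (a s)

include hli in
theorem isUnit_det_jac : IsUnit (jac a).det := by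
  rw [isUnit_iff_constantCoeff, RingHom.map_det, ← Matrix.isUnit_iff_isUnit_det,
    ← Matrix.linearIndependent_rows_iff_isUnit]
  have e : (RingHom.mapMatrix (constantCoeff (σ := Fin (r + 2)) (R := k)) (jac a)).row = fun i => lin (a i) := by
    funext s i
    exact constantCoeff_pderiv i (a s)
  rw [e]
  exact hli

/-- The Jacobian ideal of `(g, Q(u, v))` is the maximal ideal. -/
theorem minors_G_eq {A B C₀ : k} (hd : 4 * A * C₀ - B ^ 2 ≠ 0) (hli : LinearIndependent k fun i => lin (a i))
    (ha : ∀ i, constantCoeff (a i) = 0) :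
    minors (Fin.snoc (fun l : Fin r => a (ig l)) (G a A B C₀)) ⊔
      Ideal.span (Set.range (Fin.snoc (fun l : Fin r => a (ig l)) (G a A B C₀))) = maximalIdeal P := by
  classical
  set F : Fin (r + 1) → P := Fin.snoc (fun l : Fin r => a (ig l)) (G a A B C₀) with hF
  have hmem : ∀ i, a i ∈ maximalIdeal P := fun i => (mem_max_iff _).2 (ha i)
  have hQu : Qu a A B ∈ maximalIdeal P :=
    Ideal.add_mem _ (Ideal.mul_mem_left _ _ (hmem _)) (Ideal.mul_mem_left _ _ (hmem _))
  have hQv : Qv a B C₀ ∈ maximalIdeal P :=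
    Ideal.add_mem _ (Ideal.mul_mem_left _ _ (hmem _)) (Ideal.mul_mem_left _ _ (hmem _))
  apply le_antisymm
  · refine sup_le ?_ ?_
    · rw [minors, Ideal.span_le]
      rintro _ ⟨ρ, γ, hρ, -, rfl⟩
      have hρ' : Function.Bijective ρ :=
        (Fintype.bijective_iff_injective_and_card ρ).2 ⟨hρ, by simp⟩
      obtain ⟨i₀, hi₀⟩ := hρ'.2 (Fin.last r)
      rw [SetLike.mem_coe, ← Ideal.Quotient.eq_zero_iff_mem, RingHom.map_det]
      refine Matrix.det_eq_zero_of_row_eq_zero i₀ fun j => ?_
      rw [RingHom.mapMatrix_apply, Matrix.map_apply, Matrix.submatrix_apply, Matrix.of_apply, hi₀, hF,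
        Fin.snoc_last, pderiv_G, Ideal.Quotient.eq_zero_iff_mem]
      exact Ideal.add_mem _ (Ideal.mul_mem_right _ _ hQu) (Ideal.mul_mem_right _ _ hQv)
    · rw [Ideal.span_le]
      rintro _ ⟨j, rfl⟩
      refine Fin.lastCases ?_ (fun l => ?_) j
      · rw [hF, Fin.snoc_last, SetLike.mem_coe, G]
        refine Ideal.add_mem _ (Ideal.add_mem _ ?_ ?_) ?_
        · exact Ideal.mul_mem_left _ _ (Ideal.pow_mem_of_mem _ (hmem _) 2 two_pos)
        · exact Ideal.mul_mem_left _ _ (hmem _)
        · exact Ideal.mul_mem_left _ _ (Ideal.pow_mem_of_mem _ (hmem _) 2 two_pos)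
      · rw [hF, Fin.snoc_castSucc]; exact hmem _
  · -- expand two modified Jacobians
    have expand : ∀ s t : Fin (r + 2), (∀ j : Fin (r + 1),
        (jac a).updateRow s (fun i => pderiv k i (G a A B C₀)) (t.succAbove j) = fun i => pderiv k i (F j)) →
        ((jac a).updateRow s (fun i => pderiv k i (G a A B C₀))).det ∈ minors F := by
      intro s t hrows
      rw [Matrix.det_succ_row _ t]
      refine Ideal.sum_mem _ fun i _ => Ideal.mul_mem_left _ _ ?_
      have e : ((jac a).updateRow s (fun i => pderiv k i (G a A B C₀))).submatrix t.succAbove i.succAbove =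
          (Matrix.of fun (j : Fin (r + 1)) (i : Fin (r + 2)) => pderiv k i (F j)).submatrix id i.succAbove := by
        refine Matrix.ext fun j c => ?_
        rw [Matrix.submatrix_apply, Matrix.submatrix_apply, Matrix.of_apply]
        exact congrFun (hrows j) _
      rw [e]
      exact det_mem_minors (n := r + 2) F id i.succAbove Fin.succAbove_right_injective
    have hrowG : (fun i => pderiv k i (G a A B C₀)) =
        Qu a A B • (jac a (iu r)) + Qv a B C₀ • (jac a (iv r)) := by
      funext i
      rw [pderiv_G]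
      rfl
    have h1 : Qu a A B * (jac a).det ∈ minors F := by
      have := expand (iu r) (iv r) fun j => by
        rw [iv, Fin.succAbove_last]
        refine Fin.lastCases ?_ (fun l => ?_) j
        · rw [show (Fin.last r).castSucc = iu r from rfl, Matrix.updateRow_self, hF, Fin.snoc_last]
        · rw [show l.castSucc.castSucc = ig l from rfl, Matrix.updateRow_ne (ig_ne_iu l), hF,
            Fin.snoc_castSucc]; rfl
      rw [hrowG, Matrix.det_updateRow_add, Matrix.det_updateRow_smul, Matrix.det_updateRow_smul,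
        Matrix.updateRow_eq_self, Matrix.det_updateRow_eq_zero (iu_ne_iv r).symm, mul_zero, add_zero] at this
      exact this
    have h2 : Qv a B C₀ * (jac a).det ∈ minors F := by
      have := expand (iv r) (iu r) fun j => by
        refine Fin.lastCases ?_ (fun l => ?_) j
        · rw [show (iu r).succAbove (Fin.last r) = iv r by
            rw [iu, Fin.succAbove_of_le_castSucc _ _ le_rfl]; rfl,
            Matrix.updateRow_self, hF, Fin.snoc_last]
        · rw [show (iu r).succAbove l.castSucc = ig l by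
            rw [iu, Fin.succAbove_of_castSucc_lt _ _ (by simp [Fin.lt_def])]; rfl,
            Matrix.updateRow_ne (ig_ne_iv l), hF, Fin.snoc_castSucc]; rfl
      rw [hrowG, Matrix.det_updateRow_add, Matrix.det_updateRow_smul, Matrix.det_updateRow_smul,
        Matrix.updateRow_eq_self, Matrix.det_updateRow_eq_zero (iu_ne_iv r), mul_zero, zero_add] at this
      exact this
    have hu := isUnit_det_jac a hli
    rw [Ideal.mul_unit_mem_iff_mem _ hu] at h1 h2
    set D := 4 * A * C₀ - B ^ 2 with hDdef
    have hCD : IsUnit (C D : P) := (isUnit_iff_ne_zero.2 hd).map C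
    have hu' : a (iu r) ∈ minors F := by
      refine (Ideal.unit_mul_mem_iff_mem _ hCD).1 ?_
      rw [show C D * a (iu r) = C (2 * C₀) * Qu a A B - C B * Qv a B C₀ by
        simp only [hDdef, Qu, Qv, map_sub, map_mul, map_pow, map_ofNat]; ring]
      exact Ideal.sub_mem _ (Ideal.mul_mem_left _ _ h1) (Ideal.mul_mem_left _ _ h2)
    have hv' : a (iv r) ∈ minors F := by
      refine (Ideal.unit_mul_mem_iff_mem _ hCD).1 ?_
      rw [show C D * a (iv r) = C (2 * A) * Qv a B C₀ - C B * Qu a A B by
        simp only [hDdef, Qu, Qv, map_sub, map_mul, map_pow, map_ofNat]; ring]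
      exact Ideal.sub_mem _ (Ideal.mul_mem_left _ _ h2) (Ideal.mul_mem_left _ _ h1)
    rw [← span_frame a ha hli, Ideal.span_le]
    rintro _ ⟨i, rfl⟩
    rcases index_cases i with ⟨l, rfl⟩ | rfl | rfl
    · exact Ideal.mem_sup_right (Ideal.subset_span ⟨l.castSucc, by rw [hF, Fin.snoc_castSucc]⟩)
    · exact Ideal.mem_sup_left hu'
    · exact Ideal.mem_sup_left hv'

/-- An ideal containing the eliminated members and mapping onto the principal ideal of `Q`. -/
theorem eq_span_of_map {I : Ideal P} (hg : ∀ l, a (ig l) ∈ I) {A B C₀ : k}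
    (hI : I.map (el a ha hli) = Ideal.span {quad A B C₀}) :
    I = Ideal.span (Set.range (Fin.snoc (fun l : Fin r => a (ig l)) (G a A B C₀))) := by
  have hker : RingHom.ker (el a ha hli) ≤ I := by
    rw [ker_el, Ideal.span_le]
    rintro _ ⟨l, rfl⟩
    exact hg l
  have h1 : I = (Ideal.span {quad A B C₀}).comap (el a ha hli) := by
    rw [← hI, Ideal.comap_map_of_surjective _ (el_surjective a ha hli), ← RingHom.ker_eq_comap_bot,
      sup_eq_left.2 hker]
  rw [h1]
  have h2 : (Ideal.span {quad A B C₀} : Ideal Q2) = (Ideal.span {G a A B C₀}).map (el a ha hli) := by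
    rw [Ideal.map_span, Set.image_singleton, el_G]
  rw [h2, Ideal.comap_map_of_surjective _ (el_surjective a ha hli), ← RingHom.ker_eq_comap_bot, ker_el,
    ← Ideal.span_union]
  congr 1
  rw [Fin.range_snoc, Set.singleton_union]

end Groth.Agent.NodeJac3
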