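/-
Jacobian criterion for nodes over a field.
-/
import Groth.Agent.Lib.NodeJac3.Elim
import Groth.Agent.Lib.Depth.CM
import Mathlib.RingTheory.KrullDimension.NonZeroDivisors

set_option autoImplicit false
set_option linter.style.haveILetI false

noncomputable section

universe u

open MvPowerSeries IsLocalRing

namespace Groth.Agent.NodeJac3

variable {k : Type u} [Field k]

section General

variable {n : ℕ}

local notation "Rn" => MvPowerSeries (Fin n) k

/-- The space of linear parts of an ideal. -/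
def linSpace (I : Ideal (MvPowerSeries (Fin n) k)) : Submodule k (Fin n → k) :=
  (I.restrictScalars k).map lin

theorem lin_mem_linSpace {I : Ideal Rn} {z : Rn} (hz : z ∈ I) : lin z ∈ linSpace I :=
  Submodule.mem_map_of_mem hz

theorem exists_of_mem_linSpace {I : Ideal Rn} {v : Fin n → k} (hv : v ∈ linSpace I) : ∃ z ∈ I, lin z = v :=
  Submodule.mem_map.1 hv

theorem lin_eq_zero_of_mem_sq {z : Rn} (hz : z ∈ maximalIdeal Rn ^ 2) : lin z = 0 :=
  ((O_two_iff z).1 ((mem_sq_iff z).1 hz)).2

theorem pderiv_mem_sq {z : Rn} (hz : z ∈ maximalIdeal Rn ^ 2 * maximalIdeal Rn) (i : Fin n) :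
    pderiv k i z ∈ maximalIdeal Rn ^ 2 := by
  have h1 : ∀ w ∈ maximalIdeal Rn ^ 2, pderiv k i w ∈ maximalIdeal Rn := by
    intro w hw
    rw [mem_max_iff, constantCoeff_pderiv, lin_eq_zero_of_mem_sq hw]
    rfl
  induction hz using Submodule.mul_induction_on' with
  | mem_mul_mem x hx y hy =>
    rw [Derivation.leibniz, smul_eq_mul, smul_eq_mul]
    refine Ideal.add_mem _ (Ideal.mul_mem_right _ _ hx) ?_
    rw [pow_two]
    exact Ideal.mul_mem_mul hy (h1 x hx)
  | add x hx y hy ihx ihy => rw [map_add]; exact Ideal.add_mem _ ihx ihy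

/-- Series whose linear part is killed by a functional. -/
def linKer (φ : (Fin n → k) →ₗ[k] k) : Ideal (MvPowerSeries (Fin n) k) where
  carrier := {z | z ∈ maximalIdeal Rn ∧ φ (lin z) = 0}
  zero_mem' := ⟨zero_mem _, by simp⟩
  add_mem' := fun ⟨h1, h2⟩ ⟨h3, h4⟩ => ⟨add_mem h1 h3, by rw [map_add, map_add, h2, h4, add_zero]⟩
  smul_mem' := fun r z ⟨h1, h2⟩ => ⟨Ideal.mul_mem_left _ _ h1, by
    rw [smul_eq_mul, lin_mul_left _ _ h1, map_smul, h2, smul_zero]⟩

theorem linKer_top_imp {φ : (Fin n → k) →ₗ[k] k} (h : maximalIdeal Rn ≤ linKer φ) : φ = 0 := by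
  refine (Pi.basisFun k (Fin n)).ext fun i => ?_
  have := (h ((mem_max_iff _).2 (constantCoeff_X i))).2
  rw [lin_X] at this
  rw [Pi.basisFun_apply, LinearMap.zero_apply]
  exact this

theorem minors_eq_top_of_li {ι : Type*} (f : ι → Rn) (hn : n - 1 + 1 = n) (ρ : Fin (n - 1) → ι)
    (hli : LinearIndependent k fun j => lin (f (ρ j))) : minors f = ⊤ := by
  obtain ⟨d, rfl⟩ : ∃ d, n = d + 1 := ⟨n - 1, hn.symm⟩
  obtain ⟨i, hi⟩ : ∃ i : Fin (d + 1), Pi.single i (1 : k) ∉
      Submodule.span k (Set.range fun j => lin (f (ρ j))) := by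
    by_contra hall
    simp only [not_exists, not_not] at hall
    have htop : Submodule.span k (Set.range fun j => lin (f (ρ j))) = ⊤ := by
      rw [eq_top_iff, ← (Pi.basisFun k (Fin (d + 1))).span_eq, Submodule.span_le]
      rintro _ ⟨i, rfl⟩
      rw [Pi.basisFun_apply]
      exact hall i
    have h1 := finrank_span_eq_card hli
    rw [htop, finrank_top, Module.finrank_pi, Fintype.card_fin, Fintype.card_fin] at h1
    omega
  let M : Matrix (Fin (d + 1)) (Fin (d + 1)) k := Matrix.of (Fin.cons (Pi.single i 1) fun j => lin (f (ρ j)))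
  have hM : IsUnit M.det := by
    rw [← Matrix.isUnit_iff_isUnit_det, ← Matrix.linearIndependent_rows_iff_isUnit]
    exact linearIndependent_finCons.2 ⟨hli, hi⟩
  refine Ideal.eq_top_of_isUnit_mem _ (det_mem_minors (n := d + 1) f ρ i.succAbove Fin.succAbove_right_injective) ?_
  rw [isUnit_iff_constantCoeff, RingHom.map_det]
  rw [Matrix.det_succ_row_zero, Finset.sum_eq_single i (fun b _ hb => by
    simp [M, Pi.single_eq_of_ne hb]) (by simp)] at hM
  have e : RingHom.mapMatrix (constantCoeff (σ := Fin (d + 1)) (R := k))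
      ((Matrix.of fun (j : ι) (l : Fin (d + 1)) => pderiv k l (f j)).submatrix ρ i.succAbove) =
      M.submatrix Fin.succ i.succAbove := by
    refine Matrix.ext fun j c => ?_
    simp [M, constantCoeff_pderiv]
  rw [e]
  exact (IsUnit.mul_iff.1 hM).2

theorem exists_gens (I : Ideal Rn) :
    ∃ (r : ℕ) (g : Fin r → Rn), (∀ l, g l ∈ I) ∧ (LinearIndependent k fun l => lin (g l)) ∧
      Submodule.span k (Set.range fun l => lin (g l)) = linSpace I ∧ Module.finrank k (linSpace I) = r := by
  let bs := Module.finBasis k (linSpace I)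
  choose g hg hlg using fun l => exists_of_mem_linSpace (bs l).2
  have e : (fun l => lin (g l)) = (linSpace I).subtype ∘ bs := funext hlg
  refine ⟨_, g, hg, ?_, ?_, rfl⟩
  · rw [e]; exact bs.linearIndependent.map' _ (Submodule.ker_subtype _)
  · rw [e, Set.range_comp, ← Submodule.map_span, bs.span_eq, Submodule.map_top, Submodule.range_subtype]

theorem finrank_linSpace_add_two {I : Ideal Rn} (hf : I ≤ maximalIdeal Rn) {m : ℕ} (f : Fin m → Rn)
    (hI : Ideal.span (Set.range f) = I) (hJ : minors f ⊔ Ideal.span (Set.range f) = maximalIdeal Rn)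
    (hn : 2 ≤ n) : Module.finrank k (linSpace I) + 2 = n := by
  classical
  obtain ⟨r, g, hg, hgli, hgspan, hr⟩ := exists_gens I
  rw [hr]
  have hc : ∀ j, ∃ c : Fin r → k, ∑ l, c l • lin (g l) = lin (f j) := fun j =>
    (Submodule.mem_span_range_iff_exists_fun k).1 (hgspan ▸ lin_mem_linSpace (hI ▸ Ideal.subset_span ⟨j, rfl⟩))
  choose c hc using hc
  let F : Fin r ⊕ Fin m → Rn := Sum.elim g fun j => f j - ∑ l, C (c j l) * g l
  have hspanF : Ideal.span (Set.range F) = I := by
    apply le_antisymm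
    · rw [Ideal.span_le]
      rintro _ ⟨x | x, rfl⟩
      · exact hg x
      · exact Ideal.sub_mem _ (hI ▸ Ideal.subset_span ⟨x, rfl⟩)
          (Ideal.sum_mem _ fun l _ => Ideal.mul_mem_left _ _ (hg l))
    · rw [← hI, Ideal.span_le]
      rintro _ ⟨j, rfl⟩
      have : f j = F (Sum.inr j) + ∑ l, C (c j l) * F (Sum.inl l) := by simp [F]
      rw [this]
      exact Ideal.add_mem _ (Ideal.subset_span ⟨_, rfl⟩)
        (Ideal.sum_mem _ fun l _ => Ideal.mul_mem_left _ _ (Ideal.subset_span ⟨_, rfl⟩))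
  rw [minors_sup_eq f F (hI.trans hspanF.symm)] at hJ
  have hlinh : ∀ j, lin (F (Sum.inr j)) = 0 := by
    intro j
    show lin (f j - ∑ l, C (c j l) * g l) = 0
    rw [map_sub, map_sum, ← hc j, sub_eq_zero]
    refine Finset.sum_congr rfl fun l _ => ?_
    rw [lin_mul_left _ _ (hf (hg l)), constantCoeff_C]
  have h1 : r + 2 ≤ n := by
    by_contra hlt
    have hle : n - 1 ≤ r := by omega
    have htop : minors F = ⊤ := minors_eq_top_of_li F (by omega) (fun j => Sum.inl (Fin.castLE hle j))
      (hgli.comp _ (Fin.castLE_injective hle))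
    rw [htop, top_sup_eq] at hJ
    exact (maximalIdeal.isMaximal Rn).ne_top hJ.symm
  by_contra hne
  have h3 : r + 3 ≤ n := by omega
  have hminors : minors F ≤ maximalIdeal Rn ^ 2 := by
    rw [minors, Ideal.span_le]
    rintro _ ⟨ρ, γ, hρ, -, rfl⟩
    obtain ⟨i1, i2, hne12, ⟨j1, e1⟩, ⟨j2, e2⟩⟩ :
        ∃ i1 i2, i1 ≠ i2 ∧ (∃ j, ρ i1 = Sum.inr j) ∧ ∃ j, ρ i2 = Sum.inr j := by
      by_contra hall
      simp only [not_exists, not_and] at hall
      by_cases hex : ∃ i1 j, ρ i1 = Sum.inr j
      · obtain ⟨i1, j1, e1⟩ := hex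
        have : Finset.univ.erase i1 ⊆ Finset.univ.filter fun i => (ρ i).isLeft := by
          intro i hi
          rw [Finset.mem_erase] at hi
          simp only [Finset.mem_filter, Finset.mem_univ, true_and]
          cases e : ρ i with
          | inl l => rfl
          | inr j => exact absurd e (hall i1 i hi.1.symm ⟨j1, e1⟩ j)
        have h4 := Finset.card_le_card this
        rw [Finset.card_erase_of_mem (Finset.mem_univ _), Finset.card_univ, Fintype.card_fin] at h4
        have h5 : ((Finset.univ.filter fun i => (ρ i).isLeft).image ρ).card ≤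
            ((Finset.univ : Finset (Fin r)).image Sum.inl : Finset (Fin r ⊕ Fin m)).card := by
          refine Finset.card_le_card fun x hx => ?_
          simp only [Finset.mem_image, Finset.mem_filter, Finset.mem_univ, true_and] at hx ⊢
          obtain ⟨i, hi, rfl⟩ := hx
          cases e : ρ i with
          | inl l => exact ⟨l, rfl⟩
          | inr j => simp [e] at hi
        rw [Finset.card_image_of_injective _ hρ, Finset.card_image_of_injective _ Sum.inl_injective,
          Finset.card_univ, Fintype.card_fin] at h5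
        omega
      · simp only [not_exists] at hex
        have h5 : ((Finset.univ : Finset (Fin (n - 1))).image ρ).card ≤
            ((Finset.univ : Finset (Fin r)).image Sum.inl : Finset (Fin r ⊕ Fin m)).card := by
          refine Finset.card_le_card fun x hx => ?_
          simp only [Finset.mem_image, Finset.mem_univ, true_and] at hx ⊢
          obtain ⟨i, rfl⟩ := hx
          cases e : ρ i with
          | inl l => exact ⟨l, rfl⟩
          | inr j => exact absurd e (hex i j)
        rw [Finset.card_image_of_injective _ hρ, Finset.card_image_of_injective _ Sum.inl_injective,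
          Finset.card_univ, Finset.card_univ, Fintype.card_fin, Fintype.card_fin] at h5
        omega
    rw [SetLike.mem_coe, Matrix.det_apply]
    refine Ideal.sum_mem _ fun σ _ => ?_
    rw [Units.smul_def, zsmul_eq_mul]
    refine Ideal.mul_mem_left _ _ ?_
    have hrow : ∀ i j, ρ i = Sum.inr j → ∀ q,
        ((Matrix.of fun (j : Fin r ⊕ Fin m) (i : Fin n) => pderiv k i (F j)).submatrix ρ γ) i q ∈
          maximalIdeal Rn := by
      intro i j e q
      rw [Matrix.submatrix_apply, Matrix.of_apply, e, mem_max_iff, constantCoeff_pderiv, hlinh]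
      rfl
    rw [← Finset.mul_prod_erase _ _ (Finset.mem_univ (σ⁻¹ i1)),
      ← Finset.mul_prod_erase _ _ (Finset.mem_erase.2 ⟨fun e => hne12 (σ⁻¹.injective e).symm, Finset.mem_univ (σ⁻¹ i2)⟩),
      ← mul_assoc, pow_two]
    refine Ideal.mul_mem_right _ _ (Ideal.mul_mem_mul ?_ ?_)
    · simpa using hrow i1 j1 e1 (σ⁻¹ i1)
    · simpa using hrow i2 j2 e2 (σ⁻¹ i2)
  have htop : linSpace I = ⊤ := by
    rw [eq_top_iff, ← (Pi.basisFun k (Fin n)).span_eq, Submodule.span_le]
    rintro _ ⟨i, rfl⟩
    have hX : (X i : Rn) ∈ maximalIdeal Rn ^ 2 ⊔ I := by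
      have := hJ.ge ((mem_max_iff _).2 (constantCoeff_X i))
      exact (sup_le_sup hminors hspanF.le) this
    obtain ⟨w, hw, z, hz, e⟩ := Submodule.mem_sup.1 hX
    rw [Pi.basisFun_apply, ← lin_X, ← e, map_add, lin_eq_zero_of_mem_sq hw, zero_add]
    exact lin_mem_linSpace hz
  rw [htop, finrank_top, Module.finrank_pi, Fintype.card_fin] at hr
  omega

end General

section Frame

variable {r : ℕ}

local notation "P" => MvPowerSeries (Fin (r + 2)) k
local notation "Q2" => MvPowerSeries (Fin 2) k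

/-- A frame from generators and two complementary elements. -/
def frame (g : Fin r → MvPowerSeries (Fin (r + 2)) k) (u v : MvPowerSeries (Fin (r + 2)) k) :
    Fin (r + 2) → MvPowerSeries (Fin (r + 2)) k :=
  Fin.snoc (Fin.snoc g u) v

theorem frame_ig (g : Fin r → P) (u v : P) (l : Fin r) : frame g u v (ig l) = g l := by simp [frame, ig]
theorem frame_iu (g : Fin r → P) (u v : P) : frame g u v (iu r) = u := by simp [frame, iu]
theorem frame_iv (g : Fin r → P) (u v : P) : frame g u v (iv r) = v := by simp [frame, iv]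

theorem exists_lifts (a : Fin (r + 2) → P) (ha : ∀ i, constantCoeff (a i) = 0)
    (hli : LinearIndependent k fun i => lin (a i)) (s : ℕ) :
    (maximalIdeal P ^ s).map (el a ha hli) = maximalIdeal Q2 ^ s := by
  rw [Ideal.map_pow]
  congr 1
  haveI : IsLocalHom (el a ha hli).toRingHom := IsLocalHom.of_surjective _ (el_surjective a ha hli)
  refine le_antisymm ?_ ?_
  · rw [Ideal.map_le_iff_le_comap]
    intro z hz hu
    exact hz ((isUnit_map_iff (el a ha hli).toRingHom z).1 hu)
  · intro w hw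
    obtain ⟨z, rfl⟩ := el_surjective a ha hli w
    exact Ideal.mem_map_of_mem _ fun hu => hw (hu.map _)

theorem frame_eq_span {I : Ideal P} (a : Fin (r + 2) → P) (ha : ∀ i, constantCoeff (a i) = 0)
    (hli : LinearIndependent k fun i => lin (a i)) (hg : ∀ l, a (ig l) ∈ I) :
    (I.map (el a ha hli)).comap (el a ha hli) = I := by
  rw [Ideal.comap_map_of_surjective _ (el_surjective a ha hli), ← RingHom.ker_eq_comap_bot, ker_el]
  refine sup_eq_left.2 ?_
  rw [Ideal.span_le]
  rintro _ ⟨l, rfl⟩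
  exact hg l

theorem quotient_equiv_of_map {I : Ideal P} (a : Fin (r + 2) → P) (ha : ∀ i, constantCoeff (a i) = 0)
    (hli : LinearIndependent k fun i => lin (a i)) (hg : ∀ l, a (ig l) ∈ I) :
    Nonempty ((P ⧸ I) ≃ₐ[k] (Q2 ⧸ I.map (el a ha hli))) := by
  have hker : RingHom.ker ((Ideal.Quotient.mkₐ k (I.map (el a ha hli))).comp (el a ha hli)) = I := by
    conv_rhs => rw [← frame_eq_span a ha hli hg]
    ext z
    rw [RingHom.mem_ker, AlgHom.comp_apply, Ideal.Quotient.mkₐ_eq_mk, Ideal.Quotient.eq_zero_iff_mem,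
      Ideal.mem_comap]
  exact ⟨(Ideal.quotientEquivAlgOfEq k hker.symm).trans (Ideal.quotientKerAlgEquivOfSurjective
    ((Ideal.Quotient.mk_surjective).comp (el_surjective a ha hli)))⟩

theorem map_O_two {I : Ideal P} (g : Fin r → P) (hg : ∀ l, g l ∈ I) (u v : P)
    (ha : ∀ i, constantCoeff (frame g u v i) = 0)
    (hli : LinearIndependent k fun i => lin (frame g u v i)) (hI : I ≤ maximalIdeal P)
    (hspan : Submodule.span k (Set.range fun l => lin (g l)) = linSpace I) :
    ∀ w ∈ I.map (el (frame g u v) ha hli), Morse19.O 2 w := by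
  intro w hw
  obtain ⟨z, hz, rfl⟩ := (Ideal.mem_map_iff_of_surjective _ (el_surjective _ ha hli)).1 hw
  set a := frame g u v
  let α := lin (el a ha hli z) 0
  let β := lin (el a ha hli z) 1
  have hcc : constantCoeff (el a ha hli z) = 0 := by
    rw [← mem_max_iff]
    have := Ideal.mem_map_of_mem (el a ha hli) (hI hz)
    have e := exists_lifts a ha hli 1
    rw [pow_one, pow_one] at e
    rwa [e] at this
  rw [O_two_iff]
  refine ⟨hcc, ?_⟩
  have hsq : el a ha hli (z - C α * a (iu r) - C β * a (iv r)) ∈ maximalIdeal Q2 ^ 2 := by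
    have hC : ∀ c : k, el a ha hli (C c) = C c := fun c => (el a ha hli).commutes c
    rw [map_sub, map_sub, map_mul, map_mul, el_a, el_a, bvec_iu, bvec_iv, hC, hC, mem_sq_iff, O_two_iff]
    refine ⟨by simp [hcc], funext fun i => ?_⟩
    simp only [map_sub, Pi.sub_apply, lin_mul_left _ _ ((mem_max_iff _).2 (constantCoeff_X _)), constantCoeff_C,
      lin_X, Pi.smul_apply, Pi.zero_apply]
    fin_cases i <;> simp [α, β]
  rw [← exists_lifts a ha hli 2] at hsq
  obtain ⟨w', hw', e⟩ := (Ideal.mem_map_iff_of_surjective _ (el_surjective _ ha hli)).1 hsq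
  have hk : z - C α * a (iu r) - C β * a (iv r) - w' ∈ RingHom.ker (el a ha hli) := by
    rw [RingHom.mem_ker, map_sub, e, sub_self]
  rw [ker_el] at hk
  have hkI : z - C α * a (iu r) - C β * a (iv r) - w' ∈ I := by
    refine (Ideal.span_le.2 ?_) hk
    rintro _ ⟨l, rfl⟩
    simp only [a, frame_ig, SetLike.mem_coe]
    exact hg l
  have hmem : α • lin u + β • lin v ∈ linSpace I := by
    have h := Submodule.sub_mem _ (lin_mem_linSpace hz) (lin_mem_linSpace hkI)
    rw [← map_sub, show z - (z - C α * a (iu r) - C β * a (iv r) - w') = C α * a (iu r) + C β * a (iv r) + w' by ring,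
      map_add, map_add, lin_eq_zero_of_mem_sq hw', add_zero, lin_mul_left _ _ ((mem_max_iff _).2 (ha _)),
      lin_mul_left _ _ ((mem_max_iff _).2 (ha _)), constantCoeff_C, constantCoeff_C] at h
    simpa [a, frame_iu, frame_iv] using h
  obtain ⟨c, hc⟩ := (Submodule.mem_span_range_iff_exists_fun k).1 (hspan.symm ▸ hmem)
  have h0 := Fintype.linearIndependent_iff.1 hli (Fin.snoc (Fin.snoc c (-α)) (-β)) (by
    rw [Fin.sum_univ_castSucc, Fin.sum_univ_castSucc]
    simp only [Fin.snoc_castSucc, Fin.snoc_last]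
    have e1 : ∀ l : Fin r, a l.castSucc.castSucc = g l := fun l => frame_ig g u v l
    have e2 : a (Fin.last r).castSucc = u := frame_iu g u v
    have e3 : a (Fin.last (r + 1)) = v := frame_iv g u v
    simp only [e1, e2, e3, hc]
    module)
  have hα := h0 (iu r)
  have hβ := h0 (iv r)
  simp [iu] at hα
  simp [iv] at hβ
  funext i
  fin_cases i
  · exact hα
  · exact hβ

/-- From the Jacobian condition and absence of socle to the node. -/
theorem node_of_jacobian {I : Ideal P} (hI : I ≤ maximalIdeal P) {m : ℕ} (f : Fin m → P)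
    (hf : Ideal.span (Set.range f) = I) (hJ : minors f ⊔ Ideal.span (Set.range f) = maximalIdeal P)
    (hsoc : ∀ z, (∀ x ∈ maximalIdeal P, x * z ∈ I) → z ∈ I) :
    ∃ A B C₀ : k, 4 * A * C₀ - B ^ 2 ≠ 0 ∧ Nonempty ((P ⧸ I) ≃ₐ[k] (Q2 ⧸ Ideal.span {quad A B C₀})) := by
  classical
  obtain ⟨r', g, hg, hgli, hgspan, hr'⟩ := exists_gens I
  obtain rfl : r = r' := by
    have := finrank_linSpace_add_two hI f hf hJ (by omega)
    omega
  -- complete to a frame with two coordinates
  obtain ⟨i, hi⟩ : ∃ i, lin (X i : P) ∉ Submodule.span k (Set.range fun l => lin (g l)) := by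
    by_contra hall
    simp only [not_exists, not_not] at hall
    have htop : Submodule.span k (Set.range fun l => lin (g l)) = ⊤ := by
      rw [eq_top_iff, ← (Pi.basisFun k (Fin (r + 2))).span_eq, Submodule.span_le]
      rintro _ ⟨i, rfl⟩
      rw [Pi.basisFun_apply, ← lin_X]
      exact hall i
    rw [hgspan] at htop
    rw [htop, finrank_top, Module.finrank_pi, Fintype.card_fin] at hr'
    omega
  have h1 : LinearIndependent k (Fin.snoc (fun l => lin (g l)) (lin (X i : P))) :=
    linearIndependent_finSnoc.2 ⟨hgli, hi⟩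
  obtain ⟨j, hj⟩ : ∃ j, lin (X j : P) ∉
      Submodule.span k (Set.range (Fin.snoc (fun l => lin (g l)) (lin (X i : P)))) := by
    by_contra hall
    simp only [not_exists, not_not] at hall
    have htop : Submodule.span k (Set.range (Fin.snoc (fun l => lin (g l)) (lin (X i : P)))) = ⊤ := by
      rw [eq_top_iff, ← (Pi.basisFun k (Fin (r + 2))).span_eq, Submodule.span_le]
      rintro _ ⟨j, rfl⟩
      rw [Pi.basisFun_apply, ← lin_X]
      exact hall j
    have h2 := finrank_span_eq_card h1
    rw [htop, finrank_top, Module.finrank_pi, Fintype.card_fin, Fintype.card_fin] at h2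
    omega
  have ha : ∀ s, constantCoeff (frame g (X i) (X j) s) = 0 := by
    intro s
    rcases index_cases s with ⟨l, rfl⟩ | rfl | rfl
    · rw [frame_ig]; exact (mem_max_iff _).1 (hI (hg l))
    · rw [frame_iu]; exact constantCoeff_X _
    · rw [frame_iv]; exact constantCoeff_X _
  have hli : LinearIndependent k fun s => lin (frame g (X i) (X j) s) := by
    have e : (fun s => lin (frame g (X i) (X j) s)) =
        Fin.snoc (Fin.snoc (fun l => lin (g l)) (lin (X i : P))) (lin (X j : P)) := by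
      funext s
      rcases index_cases s with ⟨l, rfl⟩ | rfl | rfl
      · rw [frame_ig]; simp [ig]
      · rw [frame_iu]; simp [iu]
      · rw [frame_iv]; simp [iv]
    rw [e]
    exact linearIndependent_finSnoc.2 ⟨h1, hj⟩
  set a := frame g (X i) (X j) with hadef
  have hga : ∀ l, a (ig l) ∈ I := fun l => by rw [hadef, frame_ig]; exact hg l
  have hO := map_O_two g hg (X i) (X j) ha hli hI hgspan
  set J := I.map (el a ha hli) with hJdef
  -- existence of a nondegenerate element
  have hnd : ∀ x y : k, (∀ w ∈ J, x * (2 * cA w) + y * cB w = 0 ∧ x * cB w + y * (2 * cC w) = 0) →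
      x = 0 ∧ y = 0 := by
    intro x y hxy
    let bs : Module.Basis (Fin (r + 2)) k (Fin (r + 2) → k) :=
      basisOfLinearIndependentOfCardEqFinrank hli (by simp)
    let φ : (Fin (r + 2) → k) →ₗ[k] k := bs.constr k (Fin.snoc (Fin.snoc (fun _ => 0) x) y)
    have hφ : ∀ s, φ (lin (a s)) = (Fin.snoc (Fin.snoc (fun _ => 0) x) y : Fin (r + 2) → k) s := by
      intro s
      rw [← bs.constr_basis k (Fin.snoc (Fin.snoc (fun _ => 0) x) y) s]
      congr 1
      exact (congrFun (coe_basisOfLinearIndependentOfCardEqFinrank hli (by simp)) s).symm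
    have hag : ∀ l, a (ig l) ∈ linKer φ := fun l => ⟨hI (hga l), by rw [hφ]; simp [ig]⟩
    have hsq : maximalIdeal P ^ 2 ≤ linKer φ := fun z hz =>
      ⟨Ideal.pow_le_self two_ne_zero hz, by rw [lin_eq_zero_of_mem_sq hz, map_zero]⟩
    have hz3 : ∀ jj : Fin m, ∃ t ∈ maximalIdeal P ^ 2 * maximalIdeal P,
        f jj - G a (cA (el a ha hli (f jj))) (cB (el a ha hli (f jj))) (cC (el a ha hli (f jj))) - t ∈
          Ideal.span (Set.range fun l : Fin r => a (ig l)) := by
      intro jj
      have hw : el a ha hli (f jj) ∈ J := Ideal.mem_map_of_mem _ (hf ▸ Ideal.subset_span ⟨jj, rfl⟩)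
      have h3 : el a ha hli (f jj -
          G a (cA (el a ha hli (f jj))) (cB (el a ha hli (f jj))) (cC (el a ha hli (f jj)))) ∈
          maximalIdeal Q2 ^ 3 := by
        rw [map_sub, el_G, H2Alg.PSHom.maximalIdeal_eq]
        exact H2Alg.PSHom.mem_pow fun d hd => Morse19.O_iff.1 (O_sub_quad (hO _ hw)) d hd
      rw [← exists_lifts a ha hli 3] at h3
      obtain ⟨t, ht, e⟩ := (Ideal.mem_map_iff_of_surjective _ (el_surjective _ ha hli)).1 h3
      refine ⟨t, by rwa [← pow_succ], ?_⟩
      rw [← ker_el a ha hli, RingHom.mem_ker, map_sub, e, sub_self]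
    choose t ht hft using hz3
    let F : Fin r ⊕ (Fin m ⊕ Fin m) → P := Sum.elim (fun l => a (ig l))
      (Sum.elim (fun jj => G a (cA (el a ha hli (f jj))) (cB (el a ha hli (f jj))) (cC (el a ha hli (f jj)))) t)
    have hfF : ∀ jj, f jj ∈ Ideal.span (Set.range F) := by
      intro jj
      have e : f jj = (f jj - G a (cA (el a ha hli (f jj))) (cB (el a ha hli (f jj)))
          (cC (el a ha hli (f jj))) - t jj) + F (Sum.inr (Sum.inl jj)) + F (Sum.inr (Sum.inr jj)) := by
        simp only [F, Sum.elim_inr, Sum.elim_inl]; ring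
      rw [e]
      refine Ideal.add_mem _ (Ideal.add_mem _ ?_ (Ideal.subset_span ⟨_, rfl⟩)) (Ideal.subset_span ⟨_, rfl⟩)
      refine Ideal.span_mono ?_ (hft jj)
      rintro _ ⟨l, rfl⟩
      exact ⟨Sum.inl l, rfl⟩
    have hQ : ∀ jj, Qu a (cA (el a ha hli (f jj))) (cB (el a ha hli (f jj))) ∈ linKer φ ∧
        Qv a (cB (el a ha hli (f jj))) (cC (el a ha hli (f jj))) ∈ linKer φ := by
      intro jj
      have hw : el a ha hli (f jj) ∈ J := Ideal.mem_map_of_mem _ (hf ▸ Ideal.subset_span ⟨jj, rfl⟩)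
      obtain ⟨e1, e2⟩ := hxy _ hw
      have hm : ∀ c d : k, C c * a (iu r) + C d * a (iv r) ∈ maximalIdeal P := fun c d =>
        Ideal.add_mem _ (Ideal.mul_mem_left _ _ ((mem_max_iff _).2 (ha _)))
          (Ideal.mul_mem_left _ _ ((mem_max_iff _).2 (ha _)))
      refine ⟨⟨hm _ _, ?_⟩, ⟨hm _ _, ?_⟩⟩
      · simp only [Qu, map_add, lin_mul_left _ _ ((mem_max_iff _).2 (ha _)), constantCoeff_C, map_smul, hφ]
        simp [iu, iv]
        linear_combination e1
      · simp only [Qv, map_add, lin_mul_left _ _ ((mem_max_iff _).2 (ha _)), constantCoeff_C, map_smul, hφ]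
        simp [iu, iv]
        linear_combination e2
    have hminF : minors F ≤ linKer φ := by
      rw [minors, Ideal.span_le]
      rintro _ ⟨ρ, γ, hρ, -, rfl⟩
      obtain ⟨i0, j0, e0⟩ : ∃ i0 j0, ρ i0 = Sum.inr j0 := by
        by_contra hall
        simp only [not_exists] at hall
        have : ∀ i, ∃ l, ρ i = Sum.inl l := fun i => by
          cases e : ρ i with
          | inl l => exact ⟨l, rfl⟩
          | inr jj => exact absurd e (hall i jj)
        choose l hl using this
        have hlinj : Function.Injective l := fun p q e => hρ (by rw [hl, hl, e])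
        have := Fintype.card_le_of_injective l hlinj
        simp at this
      rw [SetLike.mem_coe, ← Ideal.Quotient.eq_zero_iff_mem, RingHom.map_det]
      refine Matrix.det_eq_zero_of_row_eq_zero i0 fun q => ?_
      rw [RingHom.mapMatrix_apply, Matrix.map_apply, Matrix.submatrix_apply, Matrix.of_apply, e0,
        Ideal.Quotient.eq_zero_iff_mem]
      cases j0 with
      | inl jj =>
        simp only [F, Sum.elim_inr, Sum.elim_inl, pderiv_G]
        exact Ideal.add_mem _ (Ideal.mul_mem_right _ _ (hQ jj).1) (Ideal.mul_mem_right _ _ (hQ jj).2)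
      | inr jj =>
        simp only [F, Sum.elim_inr]
        exact hsq (pderiv_mem_sq (ht jj) _)
    have hspanF : Ideal.span (Set.range F) ≤ linKer φ := by
      rw [Ideal.span_le]
      rintro _ ⟨s, rfl⟩
      rcases s with l | jj | jj
      · exact hag l
      · refine hsq ?_
        have hu := (mem_max_iff (a (iu r))).2 (ha _)
        have hv := (mem_max_iff (a (iv r))).2 (ha _)
        simp only [F, Sum.elim_inr, Sum.elim_inl, G, pow_two, mul_assoc]
        exact Ideal.add_mem _ (Ideal.add_mem _ (Ideal.mul_mem_left _ _ (Ideal.mul_mem_mul hu hu))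
          (Ideal.mul_mem_left _ _ (Ideal.mul_mem_mul hu hv))) (Ideal.mul_mem_left _ _ (Ideal.mul_mem_mul hv hv))
      · exact hsq (Ideal.mul_le_left (ht jj))
    have hall : maximalIdeal P ≤ linKer φ := by
      rw [← hJ]
      exact sup_le ((minors_le f F hfF).trans (sup_le hminF hspanF))
        (Ideal.span_le.2 fun _ ⟨jj, e⟩ => e ▸ hspanF (hfF jj))
    have hφ0 := linKer_top_imp hall
    have hx := hφ (iu r)
    have hy := hφ (iv r)
    rw [hφ0] at hx hy
    simp [iu] at hx
    simp [iv] at hy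
    exact ⟨hx.symm, hy.symm⟩
  obtain ⟨h, hh, hd⟩ := exists_disc_ne_zero J hnd
  have hsocJ : ∀ z, (∀ x ∈ maximalIdeal Q2, x * z ∈ J) → z ∈ J := by
    intro z hz
    obtain ⟨z', rfl⟩ := el_surjective a ha hli z
    refine Ideal.mem_map_of_mem _ (hsoc z' fun x hx => ?_)
    rw [← frame_eq_span a ha hli hga, Ideal.mem_comap, map_mul]
    refine hz _ ?_
    have e := exists_lifts a ha hli 1
    rw [pow_one, pow_one] at e
    exact e ▸ Ideal.mem_map_of_mem _ hx
  have hJh := eq_span_of_no_socle J hO hh hd hsocJ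
  obtain ⟨e1⟩ := quotient_equiv_of_map a ha hli hga
  obtain ⟨e2⟩ := exists_algEquiv_quad (hO h hh) hd
  exact ⟨cA h, cB h, cC h, hd, ⟨(e1.trans (Ideal.quotientEquivAlgOfEq k hJh)).trans e2⟩⟩

end Frame

section Converse

variable {n : ℕ}

local notation "Rn" => MvPowerSeries (Fin n) k
local notation "Q2" => MvPowerSeries (Fin 2) k

theorem two_le_and_jacobian_of_node (I : Ideal Rn) (hI : I ≤ maximalIdeal Rn) {m : ℕ} (f : Fin m → Rn)
    (hf : Ideal.span (Set.range f) = I) {A B C₀ : k} (hd : 4 * A * C₀ - B ^ 2 ≠ 0)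
    (e : (Rn ⧸ I) ≃ₐ[k] (Q2 ⧸ Ideal.span {quad A B C₀})) :
    minors f ⊔ Ideal.span (Set.range f) = maximalIdeal Rn := by
  classical
  let φ₀ : Rn →ₐ[k] Q2 ⧸ Ideal.span {quad A B C₀} := e.toAlgHom.comp (Ideal.Quotient.mkₐ k I)
  have hφ₀s : Function.Surjective φ₀ := e.surjective.comp Ideal.Quotient.mk_surjective
  have hφ₀k : ∀ z, φ₀ z = 0 ↔ z ∈ I := fun z => by
    change e (Ideal.Quotient.mk I z) = 0 ↔ _
    rw [map_eq_zero_iff _ e.injective, Ideal.Quotient.eq_zero_iff_mem]
  have hqm : Ideal.span {quad A B C₀} ≤ maximalIdeal Q2 := by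
    rw [Ideal.span_singleton_le_iff_mem, mem_max_iff]
    exact ((O_two_iff _).1 (O_quad A B C₀)).1
  haveI : Nontrivial (Q2 ⧸ Ideal.span {quad A B C₀}) := Ideal.Quotient.nontrivial_iff.2 fun h =>
    (maximalIdeal.isMaximal Q2).ne_top (top_le_iff.1 (h ▸ hqm))
  haveI : IsLocalRing (Q2 ⧸ Ideal.span {quad A B C₀}) :=
    IsLocalRing.of_surjective' _ Ideal.Quotient.mk_surjective
  haveI : IsLocalHom (Ideal.Quotient.mk (Ideal.span {quad A B C₀})) :=
    IsLocalHom.of_surjective _ Ideal.Quotient.mk_surjective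
  haveI : IsLocalHom φ₀.toRingHom := IsLocalHom.of_surjective _ hφ₀s
  have hmaxN : ∀ w : Q2, w ∈ maximalIdeal Q2 →
      Ideal.Quotient.mk (Ideal.span {quad A B C₀}) w ∈ maximalIdeal (Q2 ⧸ Ideal.span {quad A B C₀}) :=
    fun w hw hu => hw ((isUnit_map_iff _ w).1 hu)
  have hpre : ∀ z : Rn, φ₀ z ∈ maximalIdeal (Q2 ⧸ Ideal.span {quad A B C₀}) → z ∈ maximalIdeal Rn :=
    fun z hz hu => hz (hu.map φ₀)
  obtain ⟨u, hu⟩ := hφ₀s (Ideal.Quotient.mk _ (X 0))
  obtain ⟨v, hv⟩ := hφ₀s (Ideal.Quotient.mk _ (X 1))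
  have hum : u ∈ maximalIdeal Rn := hpre u (hu ▸ hmaxN _ ((mem_max_iff _).2 (constantCoeff_X _)))
  have hvm : v ∈ maximalIdeal Rn := hpre v (hv ▸ hmaxN _ ((mem_max_iff _).2 (constantCoeff_X _)))
  have hmapm : (maximalIdeal Rn).map φ₀ = maximalIdeal (Q2 ⧸ Ideal.span {quad A B C₀}) := by
    refine le_antisymm ?_ fun w hw => ?_
    · rw [Ideal.map_le_iff_le_comap]
      exact fun z hz hu => hz ((isUnit_map_iff φ₀.toRingHom z).1 hu)
    · obtain ⟨z, rfl⟩ := hφ₀s w
      exact Ideal.mem_map_of_mem _ (hpre z hw)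
  have hC : ∀ c : k, φ₀ (C c) = Ideal.Quotient.mk _ (C c) := fun c => (φ₀.commutes c).trans rfl
  -- independence of the linear parts modulo those of `I`
  have hind : ∀ α β : k, α • lin u + β • lin v ∈ linSpace I → α = 0 ∧ β = 0 := by
    intro α β h
    obtain ⟨z, hz, hlz⟩ := exists_of_mem_linSpace h
    have hsq : C α * u + C β * v - z ∈ maximalIdeal Rn ^ 2 := by
      rw [mem_sq_iff, O_two_iff]
      refine ⟨(mem_max_iff _).1 (Ideal.sub_mem _ (Ideal.add_mem _ (Ideal.mul_mem_left _ _ hum)
        (Ideal.mul_mem_left _ _ hvm)) (hI hz)), ?_⟩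
      rw [map_sub, map_add, lin_mul_left _ _ hum, lin_mul_left _ _ hvm, constantCoeff_C, constantCoeff_C,
        hlz, sub_self]
    have h2 := Ideal.mem_map_of_mem φ₀ hsq
    rw [Ideal.map_pow, hmapm, map_sub, map_add, map_mul, map_mul, (hφ₀k z).2 hz, sub_zero, hC, hC, hu, hv,
      ← map_mul, ← map_mul, ← map_add] at h2
    have e2 : maximalIdeal (Q2 ⧸ Ideal.span {quad A B C₀}) =
        (maximalIdeal Q2).map (Ideal.Quotient.mk _) := by
      refine le_antisymm (fun w hw => ?_) (Ideal.map_le_iff_le_comap.2 hmaxN)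
      obtain ⟨w, rfl⟩ := Ideal.Quotient.mk_surjective w
      exact Ideal.mem_map_of_mem _ fun h => hw (h.map _)
    rw [e2, ← Ideal.map_pow, Ideal.mem_map_iff_of_surjective _ Ideal.Quotient.mk_surjective] at h2
    · have h3 : Morse19.O 2 (C α * X 0 + C β * X 1 : Q2) := by
        obtain ⟨p, hp, e3⟩ := h2
        obtain ⟨c, hc⟩ := Ideal.mem_span_singleton.1 (Ideal.Quotient.eq.1 e3.symm)
        rw [show (C α * X 0 + C β * X 1 : Q2) = p + quad A B C₀ * c by linear_combination hc]
        exact ((mem_sq_iff p).1 hp).add ((O_quad A B C₀).mul (Morse19.O_zero_left c) |>.mono le_rfl)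
      have h4 := ((O_two_iff _).1 h3).2
      rw [map_add, lin_mul_left _ _ ((mem_max_iff _).2 (constantCoeff_X _)),
        lin_mul_left _ _ ((mem_max_iff _).2 (constantCoeff_X _)), lin_X, lin_X, constantCoeff_C,
        constantCoeff_C] at h4
      exact ⟨by simpa using congrFun h4 0, by simpa using congrFun h4 1⟩
  -- spanning
  have hspanall : ∀ w : Fin n → k, w ∈ linSpace I ⊔ Submodule.span k {lin u, lin v} := by
    intro w
    suffices ∀ s, Pi.single s (1 : k) ∈ linSpace I ⊔ Submodule.span k {lin u, lin v} by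
      rw [← (Pi.basisFun k (Fin n)).sum_repr w]
      refine Submodule.sum_mem _ fun s _ => Submodule.smul_mem _ _ ?_
      rw [Pi.basisFun_apply]; exact this s
    intro s
    obtain ⟨F, hF⟩ := Ideal.Quotient.mk_surjective (φ₀ (X s))
    have hFm : F ∈ maximalIdeal Q2 := fun hu' =>
      (show φ₀ (X s) ∈ maximalIdeal _ from hmapm ▸ Ideal.mem_map_of_mem _ ((mem_max_iff _).2 (constantCoeff_X s)))
        (hF ▸ hu'.map _)
    have h1 : φ₀ (X s - C (lin F 0) * u - C (lin F 1) * v) ∈ (maximalIdeal Rn ^ 2).map φ₀ := by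
      rw [map_sub, map_sub, map_mul, map_mul, hC, hC, hu, hv, ← hF, ← map_mul, ← map_mul, ← map_sub, ← map_sub,
        Ideal.map_pow, hmapm]
      refine Ideal.pow_right_mono (Ideal.map_le_iff_le_comap.2 hmaxN) 2 ?_
      rw [← Ideal.map_pow]
      refine Ideal.mem_map_of_mem _ ?_
      rw [mem_sq_iff, O_two_iff]
      refine ⟨by simp [(mem_max_iff F).1 hFm], funext fun i => ?_⟩
      simp only [map_sub, Pi.sub_apply, lin_mul_left _ _ ((mem_max_iff _).2 (constantCoeff_X _)), constantCoeff_C,
        lin_X, Pi.smul_apply, Pi.zero_apply]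
      fin_cases i <;> simp
    obtain ⟨w', hw', e'⟩ := (Ideal.mem_map_iff_of_surjective _ hφ₀s).1 h1
    have h2 : X s - C (lin F 0) * u - C (lin F 1) * v - w' ∈ I := by
      rw [← hφ₀k, map_sub, e', sub_self]
    have h3 := lin_mem_linSpace h2
    rw [map_sub, map_sub, map_sub, lin_eq_zero_of_mem_sq hw', sub_zero, lin_mul_left _ _ hum,
      lin_mul_left _ _ hvm, constantCoeff_C, constantCoeff_C, lin_X] at h3
    rw [Submodule.mem_sup]
    refine ⟨_, h3, lin F 0 • lin u + lin F 1 • lin v, Submodule.add_mem _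
      (Submodule.smul_mem _ _ (Submodule.subset_span (Set.mem_insert _ _)))
      (Submodule.smul_mem _ _ (Submodule.subset_span (Set.mem_insert_of_mem _ rfl))), by module⟩
  obtain ⟨r, g, hg, hgli, hgspan, hr⟩ := exists_gens I
  have hu1 : lin u ∉ Submodule.span k (Set.range fun l => lin (g l)) := fun h =>
    one_ne_zero (hind 1 0 (by simpa [hgspan] using h)).1
  have h1 : LinearIndependent k (Fin.snoc (fun l => lin (g l)) (lin u)) :=
    linearIndependent_finSnoc.2 ⟨hgli, hu1⟩
  have hv1 : lin v ∉ Submodule.span k (Set.range (Fin.snoc (fun l => lin (g l)) (lin u))) := by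
    intro h
    rw [Fin.range_snoc, Submodule.mem_span_insert] at h
    obtain ⟨c, z, hz, hz'⟩ := h
    rw [hgspan] at hz
    refine one_ne_zero (hind (-c) 1 ?_).2
    rw [show -c • lin u + (1 : k) • lin v = z by rw [hz']; module]
    exact hz
  have h2 : LinearIndependent k (Fin.snoc (Fin.snoc (fun l => lin (g l)) (lin u)) (lin v)) :=
    linearIndependent_finSnoc.2 ⟨h1, hv1⟩
  obtain rfl : r + 2 = n := by
    have htop : Submodule.span k (Set.range (Fin.snoc (Fin.snoc (fun l => lin (g l)) (lin u)) (lin v))) = ⊤ := by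
      rw [eq_top_iff]
      intro w _
      refine (sup_le ?_ ?_ : linSpace I ⊔ Submodule.span k {lin u, lin v} ≤ _) (hspanall w)
      · rw [← hgspan, Fin.range_snoc, Fin.range_snoc]
        exact Submodule.span_mono ((Set.subset_insert _ _).trans (Set.subset_insert _ _))
      · rw [Fin.range_snoc, Fin.range_snoc]
        exact Submodule.span_mono (by
          rintro z (rfl | rfl)
          · exact Set.mem_insert_of_mem _ (Set.mem_insert _ _)
          · exact Set.mem_insert _ _)
    have := finrank_span_eq_card h2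
    rw [htop, finrank_top, Module.finrank_pi, Fintype.card_fin, Fintype.card_fin] at this
    omega
  have ha : ∀ s, constantCoeff (frame g u v s) = 0 := by
    intro s
    rcases index_cases s with ⟨l, rfl⟩ | rfl | rfl
    · rw [frame_ig]; exact (mem_max_iff _).1 (hI (hg l))
    · rw [frame_iu]; exact (mem_max_iff _).1 hum
    · rw [frame_iv]; exact (mem_max_iff _).1 hvm
  have hli : LinearIndependent k fun s => lin (frame g u v s) := by
    have e' : (fun s => lin (frame g u v s)) = Fin.snoc (Fin.snoc (fun l => lin (g l)) (lin u)) (lin v) := by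
      funext s
      rcases index_cases s with ⟨l, rfl⟩ | rfl | rfl
      · rw [frame_ig]; simp [ig]
      · rw [frame_iu]; simp [iu]
      · rw [frame_iv]; simp [iv]
    rw [e']
    exact h2
  set a := frame g u v with hadef
  have hga : ∀ l, a (ig l) ∈ I := fun l => by rw [hadef, frame_ig]; exact hg l
  let φ₂ : Q2 →ₐ[k] Q2 ⧸ Ideal.span {quad A B C₀} :=
    φ₀.comp ((frameEquiv a ha hli).toAlgHom.comp (substAlgHom (hasSubst_cvec (k := k) (r := r))))
  haveI : IsHausdorff (maximalIdeal (Q2 ⧸ Ideal.span {quad A B C₀})) (Q2 ⧸ Ideal.span {quad A B C₀}) :=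
    IsHausdorff.of_isLocalRing _ _ (maximalIdeal.isMaximal _).ne_top
  have hφ₂X : ∀ s, φ₂ (X s) = Ideal.Quotient.mk _ (X s) := by
    intro s
    simp only [φ₂, AlgHom.comp_apply, substAlgHom_X]
    change φ₀ (frameEquiv a ha hli _) = _
    fin_cases s
    · change φ₀ (frameEquiv a ha hli (X (iu r))) = _
      rw [frameEquiv_X, hadef, frame_iu]; exact hu
    · change φ₀ (frameEquiv a ha hli (X (iv r))) = _
      rw [frameEquiv_X, hadef, frame_iv]; exact hv
  have hφ₂ : φ₂ = Ideal.Quotient.mkₐ k _ :=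
    H2Alg.PSHom.algHom_ext (maximalIdeal _) (fun s => hφ₂X s ▸ hmaxN _ ((mem_max_iff _).2 (constantCoeff_X _)))
      fun s => hφ₂X s
  have hfac : ∀ z, φ₀ z = Ideal.Quotient.mk _ (el a ha hli z) := by
    intro z
    rw [← Ideal.Quotient.mkₐ_eq_mk k, ← hφ₂]
    simp only [φ₂, AlgHom.comp_apply]
    change φ₀ z = φ₀ (frameEquiv a ha hli _)
    rw [← sub_eq_zero, ← map_sub, hφ₀k, ← frame_eq_span a ha hli hga, Ideal.mem_comap]
    have : el a ha hli (z - frameEquiv a ha hli (substAlgHom (hasSubst_cvec (k := k) (r := r)) (el a ha hli z))) = 0 := by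
      rw [map_sub, sub_eq_zero]
      symm
      rw [el, AlgHom.comp_apply]
      change substAlgHom _ ((frameEquiv a ha hli).symm (frameEquiv a ha hli _)) = _
      rw [AlgEquiv.symm_apply_apply, substAlgHom_apply, substAlgHom_apply,
        subst_comp_subst_apply hasSubst_cvec hasSubst_bvec]
      have e : (fun s => subst (bvec r) ((![X (iu r), X (iv r)] : Fin 2 → MvPowerSeries (Fin (r + 2)) k) s)) =
          (X : Fin 2 → Q2) := by
        funext s
        fin_cases s <;> simp [subst_X hasSubst_bvec, bvec_iu, bvec_iv]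
      rw [e, subst_self]
      rfl
    rw [this]
    exact zero_mem _
  have hmap : I.map (el a ha hli) = Ideal.span {quad A B C₀} := by
    apply le_antisymm
    · rw [Ideal.map_le_iff_le_comap]
      intro z hz
      rw [Ideal.mem_comap, ← Ideal.Quotient.eq_zero_iff_mem, ← hfac, (hφ₀k z).2 hz]
    · intro w hw
      obtain ⟨z, rfl⟩ := el_surjective a ha hli w
      exact Ideal.mem_map_of_mem _ ((hφ₀k z).1 (by rw [hfac, Ideal.Quotient.eq_zero_iff_mem]; exact hw))
  have hIgen := eq_span_of_map a ha hli hga hmap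
  rw [minors_sup_eq f _ (hf.trans hIgen)]
  exact minors_G_eq a hd hli ha

theorem props_of_node (I : Ideal Rn) (hI : I ≤ maximalIdeal Rn) {A B C₀ : k} (hd : 4 * A * C₀ - B ^ 2 ≠ 0)
    (e : (Rn ⧸ I) ≃ₐ[k] (Q2 ⧸ Ideal.span {quad A B C₀})) :
    IsReduced (Rn ⧸ I) ∧ LocCoh.depth Rn (Rn ⧸ I) = 1 := by
  haveI := H2Alg.PSHom.isRegularLocalRing k n
  haveI := H2Alg.PSHom.isRegularLocalRing k 2
  haveI : UniqueFactorizationMonoid Q2 := RegLoc.ufd_of_isRegularLocalRing _
  haveI : IsDomain Q2 := NoZeroDivisors.to_isDomain _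
  have hdq : disc (quad A B C₀) ≠ 0 := by rw [disc, cA_quad, cB_quad, cC_quad]; exact hd
  have hred : IsReduced (Q2 ⧸ Ideal.span {quad A B C₀}) := by
    refine (Ideal.isRadical_iff_quotient_reduced _).1 ?_
    rw [← isRadical_iff_span_singleton]
    exact (squarefree_of_disc (O_quad A B C₀) hdq).isRadical
  refine ⟨isReduced_of_injective e.toRingEquiv.toRingHom e.injective, ?_⟩
  haveI : Nontrivial (Rn ⧸ I) := Ideal.Quotient.nontrivial_iff.2 fun h =>
    (maximalIdeal.isMaximal Rn).ne_top (top_le_iff.1 (h ▸ hI))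
  apply le_antisymm
  · have h := DepthLib.depth_le_supportDim (R := Rn) (M := Rn ⧸ I)
    rw [Module.supportDim_quotient_eq_ringKrullDim, ringKrullDim_eq_of_ringEquiv e.toRingEquiv] at h
    have h2 := ringKrullDim_quotient_succ_le_of_nonZeroDivisor
      (mem_nonZeroDivisors_of_ne_zero (ne_zero_of_disc hdq))
    rw [H2Alg.PSHom.ringKrullDim_eq k 2] at h2
    have h3 := le_trans (add_le_add h le_rfl) h2
    rw [show ((1 : WithBot ℕ∞)) = ((1 : ℕ∞) : WithBot ℕ∞) from rfl, ← WithBot.coe_add] at h3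
    have h4 : LocCoh.depth Rn (Rn ⧸ I) + 1 ≤ ((2 : ℕ) : ℕ∞) := WithBot.coe_le_coe.1 h3
    rw [show ((2 : ℕ) : ℕ∞) = 1 + 1 by norm_num] at h4
    exact (ENat.add_le_add_iff_right ENat.one_ne_top).1 h4
  · rw [Order.one_le_iff_pos, pos_iff_ne_zero, Ne, Depth3.depth_eq_zero_iff,
      ← Depth3.forall_not_regular_iff_mem_associatedPrimes]
    intro hall
    have hass := Depth3.forall_not_regular_iff_mem_associatedPrimes.1 hall
    obtain ⟨z, hz⟩ : ∃ z : Rn ⧸ I, z ≠ 0 ∧ ∀ x ∈ maximalIdeal Rn, x • z = 0 := by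
      rw [AssociatedPrimes.mem_iff, isAssociatedPrime_iff_exists_injective_linearMap] at hass
      obtain ⟨-, g, hg⟩ := hass
      refine ⟨g (Ideal.Quotient.mk _ 1), fun h => ?_, fun x hx => ?_⟩
      · have := hg (h.trans (map_zero g).symm)
        rw [Ideal.Quotient.eq_zero_iff_mem] at this
        exact (maximalIdeal.isMaximal Rn).ne_top ((Ideal.eq_top_iff_one _).2 this)
      · rw [← map_smul]
        have : x • (Ideal.Quotient.mk (maximalIdeal Rn) 1) = 0 := by
          rw [Algebra.smul_def, map_one, mul_one]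
          exact Ideal.Quotient.eq_zero_iff_mem.2 hx
        rw [this, map_zero]
    obtain ⟨w, hw⟩ := Ideal.Quotient.mk_surjective (e z)
    apply hz.1
    apply e.injective
    rw [map_zero, ← hw, Ideal.Quotient.eq_zero_iff_mem]
    refine no_socle_of_disc (O_quad A B C₀) hdq fun x hx => ?_
    obtain ⟨x', hx'⟩ := (e.surjective.comp Ideal.Quotient.mk_surjective) (Ideal.Quotient.mk _ x)
    have hx'm : x' ∈ maximalIdeal Rn := fun hu => by
      haveI : IsLocalHom (Ideal.Quotient.mk (Ideal.span {quad A B C₀})) := by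
        have hqm : Ideal.span {quad A B C₀} ≤ maximalIdeal Q2 := by
          rw [Ideal.span_singleton_le_iff_mem, mem_max_iff]
          exact ((O_two_iff _).1 (O_quad A B C₀)).1
        haveI : Nontrivial (Q2 ⧸ Ideal.span {quad A B C₀}) := Ideal.Quotient.nontrivial_iff.2 fun h =>
          (maximalIdeal.isMaximal Q2).ne_top (top_le_iff.1 (h ▸ hqm))
        exact IsLocalHom.of_surjective _ Ideal.Quotient.mk_surjective
      refine hx ((isUnit_map_iff (Ideal.Quotient.mk (Ideal.span {quad A B C₀})) x).1 ?_)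
      rw [← hx']
      exact (hu.map (Ideal.Quotient.mk I)).map e
    rw [← Ideal.Quotient.eq_zero_iff_mem, map_mul, hw, ← hx']
    change e (Ideal.Quotient.mk I x') * e z = 0
    rw [← map_mul, ← show x' • z = Ideal.Quotient.mk I x' * z from Algebra.smul_def x' z, hz.2 x' hx'm, map_zero]

end Converse

end Groth.Agent.NodeJac3
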